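import Cfsg.Agent.Lib.Cert.ON.M
import Cfsg.Agent.Lib.Cert.Sch2

set_option autoImplicit false
set_option maxRecDepth 100000

namespace Cfsg.Agent.Ct.ONs.S2

open Cfsg.Agent.PC

open Cfsg.Agent.Fi Cfsg.Agent.Ct
def W_t : TL := (TL.node (TL.node (TL.node (TL.node (TL.node (TL.leaf []) (TL.leaf [nat_lit 4, nat_lit 3, nat_lit 5, nat_lit 1, nat_lit 0, nat_lit 1, nat_lit 4, nat_lit 0, nat_lit 1, nat_lit 0, nat_lit 4, nat_lit 5, nat_lit 1, nat_lit 0, nat_lit 1, nat_lit 4, nat_lit 0, nat_lit 5, nat_lit 1, nat_lit 4, nat_lit 6, nat_lit 0, nat_lit 4, nat_lit 0, nat_lit 1, nat_lit 0, nat_lit 4, nat_lit 5, nat_lit 6, nat_lit 1, nat_lit 0, nat_lit 5, nat_lit 1, nat_lit 0, nat_lit 3, nat_lit 5])) (TL.leaf [nat_lit 2, nat_lit 1, nat_lit 5, nat_lit 1, nat_lit 0, nat_lit 1, nat_lit 4, nat_lit 0, nat_lit 5, nat_lit 1, nat_lit 0, nat_lit 3, nat_lit 4, nat_lit 5, nat_lit 1, nat_lit 0, nat_lit 1, nat_lit 5, nat_lit 4, nat_lit 2, nat_lit 6, nat_lit 4, nat_lit 6, nat_lit 0, nat_lit 1, nat_lit 0, nat_lit 4, nat_lit 5, nat_lit 1, nat_lit 7, nat_lit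 0, nat_lit 1, nat_lit 5, nat_lit 6, nat_lit 5, nat_lit 3, nat_lit 0])) (TL.node (TL.node (TL.leaf [nat_lit 5, nat_lit 1, nat_lit 0, nat_lit 1, nat_lit 4, nat_lit 0, nat_lit 5, nat_lit 1, nat_lit 0, nat_lit 3, nat_lit 4, nat_lit 5, nat_lit 1, nat_lit 0, nat_lit 1, nat_lit 5, nat_lit 4, nat_lit 0, nat_lit 6, nat_lit 4, nat_lit 0, nat_lit 1, nat_lit 2, nat_lit 4, nat_lit 5, nat_lit 6, nat_lit 0, nat_lit 1, nat_lit 5, nat_lit 4, nat_lit 7, nat_lit 2, nat_lit 0, nat_lit 1]) (TL.leaf [nat_lit 4, nat_lit 2, nat_lit 4, nat_lit 1, nat_lit 0, nat_lit 1, nat_lit 4, nat_lit 2, nat_lit 5, nat_lit 1, nat_lit 0, nat_lit 1, nat_lit 4, nat_lit 0, nat_lit 2, nat_lit 4, nat_lit 5, nat_lit 1, nat_lit 0, nat_lit 3, nat_lit 1, nat_lit 5, nat_lit 3, nat_lit 6, nat_lit 4, nat_lit 0, nat_lit 1, nat_lit 6, nat_lit 0, nat_lit 5, nat_lit 1, nat_lit 0, nat_lit 4, nat_lit 6, nat_lit 0, nat_lit 6, nat_lit 1, nat_lit 4])) (TL.leaf [nat_lit 2, nat_lit 4, nat_lit 1, nat_lit 0, nat_lit 1, nat_lit 0, nat_lit 5, nat_lit 3, nat_lit 1, nat_lit 0, nat_lit 4,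 nat_lit 5, nat_lit 6, nat_lit 5, nat_lit 1, nat_lit 6, nat_lit 0, nat_lit 4, nat_lit 6, nat_lit 1, nat_lit 0, nat_lit 5, nat_lit 1, nat_lit 7, nat_lit 0, nat_lit 4, nat_lit 7, nat_lit 5, nat_lit 6, nat_lit 6, nat_lit 5, nat_lit 1]))) (TL.node (TL.node (TL.node (TL.leaf [nat_lit 2, nat_lit 4, nat_lit 1, nat_lit 0, nat_lit 1, nat_lit 0, nat_lit 4, nat_lit 0, nat_lit 1, nat_lit 5, nat_lit 3, nat_lit 1, nat_lit 0, nat_lit 5, nat_lit 1, nat_lit 0, nat_lit 4, nat_lit 0, nat_lit 1, nat_lit 0, nat_lit 5, nat_lit 3, nat_lit 1, nat_lit 5, nat_lit 6, nat_lit 4, nat_lit 0, nat_lit 1, nat_lit 2, nat_lit 4, nat_lit 0, nat_lit 1, nat_lit 5, nat_lit 1, nat_lit 4, nat_lit 2, nat_lit 4, nat_lit 0]) (TL.leaf [nat_lit 2, nat_lit 4, nat_lit 1, nat_lit 0, nat_lit 1, nat_lit 0, nat_lit 5, nat_lit 3, nat_lit 1, nat_lit 0, nat_lit 5, nat_lit 1, nat_lit 5, nat_lit 4, nat_lit 0, nat_lit 1, nat_lit 0, nat_lit 4, nat_lit 5, nat_lit 1, nat_lit 0, nat_lit 1, nat_lit 7, nat_lit 4, nat_lit 0, nat_lit 1, nat_lit 0, nat_lit 5, nat_lit 1, nat_lit 6, nat_lit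 4, nat_lit 0, nat_lit 1, nat_lit 5, nat_lit 6, nat_lit 4, nat_lit 2, nat_lit 0, nat_lit 5])) (TL.leaf [nat_lit 4, nat_lit 0, nat_lit 2, nat_lit 4, nat_lit 1, nat_lit 3, nat_lit 5, nat_lit 1, nat_lit 0, nat_lit 1, nat_lit 4, nat_lit 0, nat_lit 5, nat_lit 1, nat_lit 0, nat_lit 1, nat_lit 4, nat_lit 5, nat_lit 0, nat_lit 1, nat_lit 2, nat_lit 0, nat_lit 4, nat_lit 6, nat_lit 4, nat_lit 5, nat_lit 1, nat_lit 0, nat_lit 1, nat_lit 4, nat_lit 6, nat_lit 0, nat_lit 6, nat_lit 4, nat_lit 5, nat_lit 6, nat_lit 0, nat_lit 5, nat_lit 6, nat_lit 4, nat_lit 1])) (TL.node (TL.leaf [nat_lit 4, nat_lit 0, nat_lit 1, nat_lit 0, nat_lit 1, nat_lit 4, nat_lit 0, nat_lit 2, nat_lit 5, nat_lit 1, nat_lit 0, nat_lit 1, nat_lit 4, nat_lit 0, nat_lit 1, nat_lit 0, nat_lit 6, nat_lit 4, nat_lit 0, nat_lit 1, nat_lit 5, nat_lit 1, nat_lit 0, nat_lit 1, nat_lit 4, nat_lit 6, nat_lit 5, nat_lit 1, nat_lit 0, nat_lit 5]) (TL.leaf [nat_lit 2, nat_lit 5, nat_lit 1, nat_lit 0, nat_lit 1, nat_lit 4, nat_lit 0, nat_lit 7, nat_lit 7, nat_lit 5, nat_lit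 1, nat_lit 0, nat_lit 4, nat_lit 0, nat_lit 2, nat_lit 6, nat_lit 4, nat_lit 0, nat_lit 5, nat_lit 1, nat_lit 0, nat_lit 6, nat_lit 1, nat_lit 5, nat_lit 6, nat_lit 4, nat_lit 0, nat_lit 1, nat_lit 7, nat_lit 0, nat_lit 6, nat_lit 5, nat_lit 6, nat_lit 1, nat_lit 6])))) (TL.node (TL.node (TL.node (TL.node (TL.leaf [nat_lit 4, nat_lit 1, nat_lit 0, nat_lit 1, nat_lit 7, nat_lit 7, nat_lit 4, nat_lit 0, nat_lit 1, nat_lit 0, nat_lit 5, nat_lit 1, nat_lit 0, nat_lit 1, nat_lit 4, nat_lit 0, nat_lit 5, nat_lit 1, nat_lit 0, nat_lit 6, nat_lit 4, nat_lit 5, nat_lit 1, nat_lit 0, nat_lit 1, nat_lit 0, nat_lit 5, nat_lit 1, nat_lit 0, nat_lit 4, nat_lit 2, nat_lit 4, nat_lit 0, nat_lit 4, nat_lit 1]) (TL.leaf [nat_lit 4, nat_lit 0, nat_lit 4, nat_lit 1, nat_lit 0, nat_lit 4, nat_lit 5, nat_lit 1, nat_lit 0, nat_lit 1, nat_lit 4, nat_lit 0, nat_lit 1, nat_lit 0, nat_lit 5, nat_lit 1, nat_lit 0, nat_lit 3, nat_lit 5, nat_lit 4, nat_lit 1, nat_lit 2, nat_lit 0, nat_lit 6, nat_lit 5, nat_lit 1, nat_lit 6, nat_lit 0, nat_lit 4, nat_lit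 6, nat_lit 1, nat_lit 0, nat_lit 4, nat_lit 5, nat_lit 1, nat_lit 7, nat_lit 4, nat_lit 0, nat_lit 4, nat_lit 5, nat_lit 7])) (TL.leaf [nat_lit 0, nat_lit 4, nat_lit 5, nat_lit 3, nat_lit 1, nat_lit 0, nat_lit 5, nat_lit 1, nat_lit 0, nat_lit 4, nat_lit 0, nat_lit 1, nat_lit 0, nat_lit 5, nat_lit 4, nat_lit 7, nat_lit 4, nat_lit 0, nat_lit 1, nat_lit 2, nat_lit 4, nat_lit 0, nat_lit 1, nat_lit 5, nat_lit 1, nat_lit 6, nat_lit 0, nat_lit 4, nat_lit 6, nat_lit 0, nat_lit 1, nat_lit 3])) (TL.node (TL.node (TL.leaf [nat_lit 0, nat_lit 5, nat_lit 1, nat_lit 0, nat_lit 1, nat_lit 4, nat_lit 0, nat_lit 1, nat_lit 0, nat_lit 4, nat_lit 5, nat_lit 1, nat_lit 0, nat_lit 1, nat_lit 4, nat_lit 0, nat_lit 5, nat_lit 1, nat_lit 4, nat_lit 2, nat_lit 0, nat_lit 6, nat_lit 5, nat_lit 1, nat_lit 0, nat_lit 1, nat_lit 4, nat_lit 0, nat_lit 1, nat_lit 0, nat_lit 5, nat_lit 1, nat_lit 6, nat_lit 0, nat_lit 6, nat_lit 1]) (TL.leaf [nat_lit 0, nat_lit 4, nat_lit 1, nat_lit 0, nat_lit 4, nat_lit 5, nat_lit 1, nat_lit 0, nat_lit 1, nat_lit 4,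 nat_lit 0, nat_lit 2, nat_lit 4, nat_lit 5, nat_lit 1, nat_lit 0, nat_lit 4, nat_lit 6, nat_lit 5, nat_lit 1, nat_lit 5, nat_lit 6, nat_lit 5, nat_lit 6, nat_lit 0, nat_lit 4, nat_lit 0, nat_lit 1, nat_lit 0, nat_lit 4, nat_lit 6, nat_lit 5, nat_lit 0, nat_lit 1])) (TL.leaf [nat_lit 4, nat_lit 0, nat_lit 2, nat_lit 4, nat_lit 1, nat_lit 7, nat_lit 4, nat_lit 0, nat_lit 5, nat_lit 7, nat_lit 1, nat_lit 0, nat_lit 1, nat_lit 4, nat_lit 5, nat_lit 6, nat_lit 1, nat_lit 4, nat_lit 0, nat_lit 2, nat_lit 4]))) (TL.node (TL.node (TL.node (TL.leaf [nat_lit 0, nat_lit 1, nat_lit 7, nat_lit 7, nat_lit 5, nat_lit 1, nat_lit 0, nat_lit 1, nat_lit 4, nat_lit 0, nat_lit 1, nat_lit 0, nat_lit 5, nat_lit 1, nat_lit 3, nat_lit 5, nat_lit 6, nat_lit 4, nat_lit 7, nat_lit 0, nat_lit 1, nat_lit 0, nat_lit 4, nat_lit 5, nat_lit 1, nat_lit 6, nat_lit 0, nat_lit 1, nat_lit 5, nat_lit 6, nat_lit 0, nat_lit 1, nat_lit 7, nat_lit 5]) (TL.leaf [nat_lit 0, nat_lit 3, nat_lit 5, nat_lit 1, nat_lit 0, nat_lit 1, nat_lit 4, nat_lit 0, nat_lit 1, nat_lit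 5, nat_lit 1, nat_lit 7, nat_lit 1, nat_lit 4, nat_lit 0, nat_lit 2, nat_lit 4, nat_lit 5, nat_lit 1, nat_lit 0, nat_lit 7, nat_lit 4, nat_lit 5, nat_lit 7])) (TL.leaf [nat_lit 4, nat_lit 0, nat_lit 1, nat_lit 0, nat_lit 4, nat_lit 2, nat_lit 5, nat_lit 3, nat_lit 1, nat_lit 0, nat_lit 5, nat_lit 1, nat_lit 6, nat_lit 0, nat_lit 4, nat_lit 0, nat_lit 1, nat_lit 0, nat_lit 4, nat_lit 5, nat_lit 1, nat_lit 3, nat_lit 5, nat_lit 6, nat_lit 0, nat_lit 1, nat_lit 7, nat_lit 5, nat_lit 7, nat_lit 5, nat_lit 1, nat_lit 4])) (TL.node (TL.leaf [nat_lit 0, nat_lit 5, nat_lit 3, nat_lit 1, nat_lit 0, nat_lit 1, nat_lit 4, nat_lit 0, nat_lit 1, nat_lit 5, nat_lit 1, nat_lit 0, nat_lit 1, nat_lit 4, nat_lit 0, nat_lit 1, nat_lit 5, nat_lit 2, nat_lit 4, nat_lit 6, nat_lit 0, nat_lit 4, nat_lit 0, nat_lit 1, nat_lit 0, nat_lit 4, nat_lit 2, nat_lit 5, nat_lit 1, nat_lit 6, nat_lit 0, nat_lit 1, nat_lit 4]) (TL.leaf [nat_lit 4, nat_lit 2, nat_lit 5, nat_lit 3, nat_lit 1, nat_lit 0, nat_lit 5, nat_lit 1, nat_lit 0, nat_lit 4, nat_lit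 0, nat_lit 1, nat_lit 0, nat_lit 5, nat_lit 1, nat_lit 4, nat_lit 0, nat_lit 3, nat_lit 5, nat_lit 1, nat_lit 6, nat_lit 4, nat_lit 0, nat_lit 1, nat_lit 0, nat_lit 5, nat_lit 6, nat_lit 1, nat_lit 4, nat_lit 0, nat_lit 7, nat_lit 1, nat_lit 4, nat_lit 7, nat_lit 0, nat_lit 5, nat_lit 3, nat_lit 1])))))
noncomputable def W (i : ℕ) : List ℕ := TL.get W_t i
def B : List ℕ := [nat_lit 0, nat_lit 12, nat_lit 102]
noncomputable def q (j : ℕ) : Cfsg.Spor.ON := ev ON.al (W j)
noncomputable def Q (j : ℕ) : ℕ → ℕ := trF ON.T (W j)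
theorem md : Md ON.pt 122760 B q Q 22 := (ON.md0).words' (by decide +kernel)
def I (i : ℕ) : ℕ := Nat.land (Nat.shiftRight (nat_lit 0xd8000dc00000380e43a0ec00000000000000000000000000000000000000000000000000000000000000000000000000000000000000000000000000000000000000000000000000000000000000000000000000000000000000000000000000000000000000000000000000000000000000000000000000000000000000000000000000000000000000000000000000000000000000000000000000000bc00000000c031000320cc340d40000000000000000000000000000000000000000000000000000000000000000000000000000000000000000000000000000000000000000000000000000000000000b8000b4000000000000000000000000000000000000000000000000000000000000000000000000000000000000000000000000000000000000000000000000000000000000000000000000000000000b8000b0240000000000000000000000000000000000000000000000000000000000000000000000000000000000000000000000000000000000000000000000000000000000000000000000000000000b8000ac2307000000000000000000000000000000000000000000000000000000000000000000000000000000000000000000000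00000000000000000000000000000000000000000000000000000000b8000a82206c1500000000000000000000000000000000000000000000000000000000000000000000000000000000000000000000000000000000000000000000000000000000000000000000000000b8000a4210681403c00000000000000000000000000000000000000000000000000000000000000000000000000000000000000000000000000000000000000000000000000000000000000000000000b8000a020064130380a000000000000000000000000000000000000000000000000000000000000000000000000000000000000000000000000000000000000000000000000000000000000000000000b80009c1f0601203409018000000000000000000000000000000000000000000000000000000000000000000000000000000000000000000000000000000000000000000000000000000000000000000b8000981e05c1103008014030000000000000000000000000000000000000000000000000000000000000000000000000000000000000000000000000000000000000000000000000000000000000000b8000941d0581002c07010020040000000000000000000000000000000000000000000000000000000000000000000000000000000000000000000000000000000000000000000000000000000000000b8000000000000000000000000000)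 (Nat.mul (nat_lit 10) i)) (nat_lit 1023)
def Ru_t1 : TN := (TN.node (TN.node (TN.node (TN.node (TN.leaf (nat_lit 0)) (TN.leaf (nat_lit 0x11080000000001080c2))) (TN.node (TN.leaf (nat_lit 0x46000000000046082)) (TN.leaf (nat_lit 0x2810c5187209000000000287202)))) (TN.node (TN.node (TN.leaf (nat_lit 0x84000000000084082)) (TN.leaf (nat_lit 0x11090000000001090c2))) (TN.node (TN.leaf (nat_lit 0xc70000000000c7082)) (TN.leaf (nat_lit 0x303105187000000000304182))))) (TN.node (TN.node (TN.node (TN.leaf (nat_lit 0x43000000000043082)) (TN.leaf (nat_lit 0x43106000000000208102))) (TN.node (TN.leaf (nat_lit 0x21460000000001460c2)) (TN.leaf (nat_lit 0x281083000000000282102)))) (TN.node (TN.node (TN.leaf (nat_lit 0x85000000000085082)) (TN.leaf (nat_lit 0x1105209000000000209142))) (TN.leaf (nat_lit 0x10000000001c7042)))))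
def Ru_t2 : TN := (TN.node (TN.node (TN.node (TN.node (TN.leaf (nat_lit 0x42000000000042082)) (TN.leaf (nat_lit 0x21880000000001880c2))) (TN.node (TN.leaf (nat_lit 0xc60000000000c6082)) (TN.leaf (nat_lit 0x2810c6000000000284102)))) (TN.node (TN.node (TN.leaf (nat_lit 0x1000000000104042)) (TN.leaf (nat_lit 0x420c4189000000000189182))) (TN.node (TN.leaf (nat_lit 0x31470000000001470c2)) (TN.leaf (nat_lit 0xc0420c51870000000003021c2))))) (TN.node (TN.node (TN.node (TN.leaf (nat_lit 798722)) (TN.leaf (nat_lit 0x10890000000000890c2))) (TN.node (TN.leaf (nat_lit 0x47000000000047082)) (TN.leaf (nat_lit 0x301085187000000000309182)))) (TN.node (TN.node (TN.leaf (nat_lit 0x105000000000105082)) (TN.leaf (nat_lit 0x20c41461c900000000000b1c1))) (TN.leaf (nat_lit 0x88000000000088082)))))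
def Ru_t3 : TN := (TN.node Ru_t1 Ru_t2)
def Ru_t4 : TN := (TN.node (TN.node (TN.node (TN.node (TN.leaf (nat_lit 266242)) (TN.leaf (nat_lit 0x1083148000000000148142))) (TN.node (TN.leaf (nat_lit 0x86000000000086082)) (TN.leaf (nat_lit 0xa0431461c90000000002861c2)))) (TN.node (TN.node (TN.leaf (nat_lit 0xc40000000000c4082)) (TN.leaf (nat_lit 0x41490000000001490c2))) (TN.node (TN.leaf (nat_lit 0x11070000000001070c2)) (TN.leaf (nat_lit 0xc0420c61c90000000003031c2))))) (TN.node (TN.node (TN.node (TN.leaf (nat_lit 0x83000000000083082)) (TN.leaf (nat_lit 0x49000000000049082))) (TN.node (TN.leaf (nat_lit 0x2000000000186042)) (TN.leaf (nat_lit 0x282000000000281082)))) (TN.node (TN.node (TN.leaf (nat_lit 0x10c50000000000c50c2)) (TN.leaf (nat_lit 0x1000000000249042))) (TN.leaf (nat_lit 0x48000000000048082)))))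
def Ru_t5 : TN := (TN.node (TN.node (TN.node (TN.node (TN.leaf (nat_lit 532482)) (TN.leaf (nat_lit 0x421461c80000000001c8182))) (TN.node (TN.leaf (nat_lit 0x106000000000106082)) (TN.leaf (nat_lit 0x281000000000283082)))) (TN.node (TN.node (TN.leaf (nat_lit 0x45000000000045082)) (TN.leaf (nat_lit 0x11c90000000001c90c2))) (TN.node (TN.leaf (nat_lit 0xc4187000000000187102)) (TN.leaf (nat_lit 0x301000000000301082))))) (TN.node (TN.node (TN.node (TN.leaf (nat_lit 0x44000000000044082)) (TN.leaf (nat_lit 0x10c90000000000c90c2))) (TN.node (TN.leaf (nat_lit 0x10870000000000870c2)) (TN.leaf (nat_lit 0xc0440000000003070c2)))) (TN.node (TN.node (TN.leaf (nat_lit 0x44000000000145082)) (TN.leaf (nat_lit 0x2820c41461c900000000028b202))) (TN.leaf (nat_lit 0x420c80000000000c8102)))))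
def Ru_t6 : TN := (TN.node Ru_t4 Ru_t5)
def Ru_t : TN := (TN.node Ru_t3 Ru_t6)
noncomputable def Ru (i : ℕ) : ℕ := TN.get Ru_t i
def D_t1 : TN := (TN.node (TN.node (TN.node (TN.node (TN.leaf (nat_lit 0x1000000000000000000000000000000000000000100000001)) (TN.leaf (nat_lit 0x10000000000000000000000010000000000000000000000000000000000000000000000000000000000000000000000000000000000000000000000000000000000000000000000000000000100000001000000010000000000000000000000000000000000000001000000010000000000000001000000010000000100000021))) (TN.leaf (nat_lit 0x10000000000000000000000000000000000000000000000000000000000000000000000000000000000000000000000000000000000000000000000000000000000000000000000000000000000000000000000000000000100000000000000000000000000000000000000000000000100000011))) (TN.node (TN.node (TN.leaf (nat_lit 0x10000000000000000000000000000000000000009)) (TN.leaf (nat_lit 0x100000000000000000000000000000000000000000000000000000001000000000000000100000001000000010000000000000001000000000000000100000000000000000000000000000000000000000000000000000000000000000000000100000001000000010000000000000000000000010000000000000000000000010000000100000000000000010000000100000001000000010000000000000001000000000000000000000001000000010000000000000000000000000000000100000001000000000000000000000029)))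 (TN.leaf (nat_lit 0x100000001000000000000000000000000000000000000000000000000000000000000000100000000000000000000000000000000000000000000000100000001000000000000000000000001000000000000000100000000000000000000000100000019)))) (TN.node (TN.node (TN.node (TN.leaf (nat_lit 0x100000000000000000000000000000000000000000000000000000000000000000000000000000000000000000000000000000000000000000000000000000000000000000000000000000000000000000000000000000005)) (TN.leaf (nat_lit 0x10000000000000000000000000000000000000000000000000000000000000000000000000000000000000000000000000000000000000000000000000000000000000000000000000000000000000000000000000000000000000000000000000000000000000000000000000000000000000000000000000000000100000001000000010000000100000001000000000000000000000001000000010000000000000001000000000000000100000001000000010000000000000001000000010000000100000001000000000000000100000000000000000000000000000001000000000000000100000025))) (TN.leaf (nat_lit 0x100000000000000000000000000000000000000000000000000000000000000000000000000000000000000000000000000000000000000000000000000000000000000000000000000000000000000000000000000000000000000000000000000000000000000000000000000000000000000010000000100000000000000000000000000000000000000000000000000000000000000000000000100000015)))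 (TN.node (TN.leaf (nat_lit 0x1000000000000000000000001000000000000000000000000000000000000000000000000000000000000000000000000000000000000000d)) (TN.leaf (nat_lit 0x100000000000000000000000000000000000000000000000000000000000000000000000000000000000000000000000000000000000000010000000000000000000000000000000000000000000000000000000000000000000000000000000000000000000000000000000000000001000000000000000100000000000000010000000000000000000000010000000000000000000000000000001d)))))
def D_t2 : TN := (TN.node (TN.node (TN.node (TN.node (TN.leaf (nat_lit 0x100000000000000000000000000000000000000000000000000000003)) (TN.leaf (nat_lit 0x100000001000000010000000000000000000000000000000000000000000000000000000000000000000000010000000000000000000000000000000000000000000000010000000100000000000000010000000000000000000000010000000000000001000000000000000100000001000000010000000000000023))) (TN.leaf (nat_lit 0x1000000000000000000000000000000000000000000000000000000000000000000000000000000000000000000000000000000010000000000000000000000000000000000000000000000000000000000000000000000000000000000000000000000000000000000000001000000000000000000000013)))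 (TN.node (TN.node (TN.leaf (nat_lit 0x1000000000000000000000000000000000000000000000000000000000000000000000000000000000000000b)) (TN.leaf (nat_lit 0x10000000100000000000000000000000000000000000000000000000000000000000000000000000000000000000000000000000000000000000000000000000000000000000000000000000000000000000000000000000000000000000000000000000000000000000000000000000000000000000000000000000000000000000000000000000000000000000000000000000000000000000000000000000000000000000000000000000000000000000000000000000000000000000000010000000000000001000000010000002b))) (TN.leaf (nat_lit 0x10000000000000001000000010000000000000001000000000000000000000000000000000000000000000000000000000000000000000000000000000000000000000000000000000000000000000000000000000000000000000000000000000000000000000001000000000000000000000001000000010000000100000001000000010000001b)))) (TN.node (TN.node (TN.node (TN.leaf (nat_lit 0x10000000000000007)) (TN.leaf (nat_lit 0x1000000000000000100000001000000000000000000000001000000010000000100000000000000000000000000000000000000000000000000000000000000000000000100000001000000000000000100000000000000000000000100000001000000000000000000000001000000000000000000000000000000000000000000000000000000000000000100000001000000000000000000000001000000010000000000000000000000010000000100000027)))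 (TN.leaf (nat_lit 0x100000000000000000000000100000000000000000000000000000001000000000000000000000000000000000000000000000000000000000000000000000001000000000000000000000017))) (TN.node (TN.leaf (nat_lit 0x1000000000000000000000000000000000000000100000000000000000000000000000000000000000000000000000000000000000000000100000000000000000000000f)) (TN.leaf (nat_lit 0x1000000000000000000000000000000010000000100000000000000000000000000000000000000000000000000000000000000010000000100000000000000000000000100000000000000000000000000000001000000000000001f)))))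
def D_t3 : TN := (TN.node D_t1 D_t2)
def D_t4 : TN := (TN.node (TN.node (TN.node (TN.node (TN.leaf (nat_lit 0x1000000000000000100000002)) (TN.leaf (nat_lit 0x10000000000000000000000000000000000000000000000000000000000000000000000000000000000000000000000000000000000000000000000000000000000000000000000000000000000000000000000000000000000000000000000000000000000000000000000000000000000000000000000000000000000000000000000000000000000000000000000000000000100000000000000000000000100000000000000000000000000000000000000010000000000000000000000000000000000000001000000000000000000000000000000000000000000000000000000000000000100000022))) (TN.leaf (nat_lit 0x1000000000000000000000000000000000000000000000000000000000000000000000000000000000000000000000000000000010000000000000000000000000000000000000001000000000000000000000000000000000000000000000012))) (TN.node (TN.node (TN.leaf (nat_lit 0x1000000000000000000000000000000000000000000000000000000000000000a)) (TN.leaf (nat_lit 0x1000000000000000000000000000000000000000000000000000000000000000100000001000000010000000100000001000000000000000100000000000000010000000100000001000000010000000000000000000000010000000000000001000000000000000000000000000000000000000000000001000000000000000000000001000000000000000000000001000000000000000000000000000000000000000100000001000000000000000100000000000000000000000000000001000000010000000000000000000000010000002a)))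 (TN.leaf (nat_lit 0x10000000000000000000000000000000000000000000000000000000000000000000000000000000000000000000000000000000000000000000000010000000000000000000000000000000100000000000000010000000000000000000000000000000000000001000000000000000000000000000000000000000000000000000000010000000000000000000000000000001a)))) (TN.node (TN.node (TN.node (TN.leaf (nat_lit 0x100000000000000000000000000000000000000000000000000000000000000000000000000000000000000000000000000000000000000000000000000000000000000000000000000000000000000000000000000000000000000000000000000000000000000000000000000000000000000000000000000000000000000000000000000000000000000000000000000000006)) (TN.leaf (nat_lit 0x10000000000000000000000000000000000000000000000000000000000000000000000000000000000000000000000000000000000000001000000010000000100000000000000000000000000000000000000000000000100000001000000010000000000000000000000000000000000000001000000010000000000000000000000000000000000000001000000000000000000000000000000000000000100000000000000000000000000000000000000000000000000000000000000000000000000000000000000010000000000000026)))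 (TN.leaf (nat_lit 0x10000000000000000000000000000000000000000000000000000000000000000000000000000000000000000000000000000000000000000000000000000000000000000000000000000000000000000000000000000000000000000000000000000000000000000000000000000000000000000000000000000000000000001000000000000000000000001000000000000000100000000000000000000000000000000000000000000000100000000000000000000000000000001000000000000000100000000000000000000000100000016))) (TN.node (TN.leaf (nat_lit 0x1000000010000000e)) (TN.leaf (nat_lit 0x1000000000000000000000000000000000000000000000000000000000000000000000000000000000000000000000000000000000000000000000001000000010000000000000000000000000000000000000001000000010000000000000000000000000000000100000000000000000000000000000000000000000000000000000001000000000000000000000001000000010000001e)))))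
def D_t5 : TN := (TN.node (TN.node (TN.node (TN.node (TN.leaf (nat_lit 0x10000000000000000000000000000000000000000000000000000000000000000000000000000000000000000000000000000000000000000000000000000000000000004)) (TN.leaf (nat_lit 0x10000000000000000000000000000000000000000000000000000000000000000000000000000000000000000000000000000000000000001000000000000000000000000000000000000000000000000000000000000000000000000000000000000000000000000000000000000000000000000000000000000000100000001000000010000000000000000000000010000000100000001000000010000000100000000000000010000000100000001000000000000000100000000000000010000000100000000000000000000000000000001000000000000000100000000000000000000000100000024))) (TN.leaf (nat_lit 0x10000000000000001000000000000000000000000000000000000000100000000000000000000000100000014))) (TN.node (TN.node (TN.leaf (nat_lit 0x10000000000000000000000000000000000000000000000000000000000000000000000000000000000000000000000000000000000000000000000000000000c)) (TN.leaf (nat_lit 0x100000001000000000000000000000000000000000000000000000001000000000000000000000000000000000000000000000000000000000000000000000001000000010000000100000000000000000000000100000000000000000000000000000001000000000000000000000000000000010000000000000001000000000000000100000000000000010000000000000001000000000000000100000000000000010000000100000001000000000000000100000001000000000000000100000000000000000000002c)))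 (TN.leaf (nat_lit 0x1000000010000000000000000000000010000000000000000000000000000000000000000000000000000000000000001000000000000000000000000000000000000000000000000000000000000000000000000000000000000000000000000000000000000000100000001000000000000000000000001000000000000000000000000000000000000000000000000000000000000000000000000000000010000001c)))) (TN.node (TN.node (TN.node (TN.leaf (nat_lit 0x100000000000000000000000000000008)) (TN.leaf (nat_lit 0x100000001000000000000000000000001000000010000000000000001000000000000000100000001000000000000000100000001000000010000000000000000000000000000000100000001000000000000000000000001000000010000000100000001000000000000000000000001000000000000000000000001000000000000000100000028))) (TN.leaf (nat_lit 0x100000000000000000000000100000000000000000000000000000000000000000000000000000000000000000000000100000000000000000000000000000000000000000000000000000001000000000000000100000000000000000000000000000018))) (TN.node (TN.leaf (nat_lit 0x10000000000000000000000000000000000000000000000000000000000000000000000000000000000000000000000000000000000000000000000000000000000000000000000000000000000000000000000000000000000000000000000000000000000000000000000000000000000000000000000000000000100000000000000000000000000000000000000000000000000000000000000000000000000000000000000000000000000000000000000000000000000000000000000000000000100000000000000000000000100000000000000000000000000000000000000000000000100000010))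 (TN.leaf (nat_lit 0x10000000000000000000000000000000000000000000000000000000000000000000000000000000000000000000000000000000000000000000000000000000100000000000000000000000000000000000000000000000000000000000000000000000000000000000000000000000000000000000000000000000000000000000000000000000100000000000000000000000100000000000000000000000100000000000000000000000000000000000000010000000000000000000000000000000000000000000000010000000100000000000000000000000000000000000000000000000000000020)))))
def D_t6 : TN := (TN.node D_t4 D_t5)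
def D_t : TN := (TN.node D_t3 D_t6)
noncomputable def D (i : ℕ) : ℕ := TN.get D_t i
def La_t1 : TN := (TN.node (TN.node (TN.node (TN.node (TN.leaf (nat_lit 0x100000000000001000000000000)) (TN.leaf (nat_lit 0x10000000000))) (TN.leaf (nat_lit 0x100000000000000000000))) (TN.node (TN.leaf (nat_lit 0x100000000000000)) (TN.leaf (nat_lit 0x100000000)))) (TN.node (TN.node (TN.leaf (nat_lit 0x1000000000000)) (TN.leaf (nat_lit 0x10000000000000000000000))) (TN.node (TN.leaf (nat_lit 65536)) (TN.leaf (nat_lit 0x100000100000000000001000000010000)))))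
def La_t2 : TN := (TN.node (TN.node (TN.node (TN.node (TN.leaf (nat_lit 0)) (TN.leaf (nat_lit 0))) (TN.leaf (nat_lit 0))) (TN.node (TN.leaf (nat_lit 0)) (TN.leaf (nat_lit 0)))) (TN.node (TN.node (TN.leaf (nat_lit 0)) (TN.leaf (nat_lit 0))) (TN.node (TN.leaf (nat_lit 0)) (TN.leaf (nat_lit 0)))))
def La_t3 : TN := (TN.node La_t1 La_t2)
def La_t4 : TN := (TN.node (TN.node (TN.node (TN.node (TN.leaf (nat_lit 0)) (TN.leaf (nat_lit 0x1010000000001000000000000010000000000010000010001000000000001000000010000))) (TN.leaf (nat_lit 0))) (TN.node (TN.leaf (nat_lit 0)) (TN.leaf (nat_lit 0)))) (TN.node (TN.node (TN.leaf (nat_lit 0)) (TN.leaf (nat_lit 0))) (TN.node (TN.leaf (nat_lit 0)) (TN.leaf (nat_lit 0)))))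
def La_t5 : TN := (TN.node (TN.node (TN.node (TN.node (TN.leaf (nat_lit 0)) (TN.leaf (nat_lit 0))) (TN.leaf (nat_lit 0))) (TN.node (TN.leaf (nat_lit 0)) (TN.leaf (nat_lit 0)))) (TN.node (TN.node (TN.leaf (nat_lit 0)) (TN.leaf (nat_lit 0))) (TN.node (TN.leaf (nat_lit 0)) (TN.leaf (nat_lit 0)))))
def La_t6 : TN := (TN.node La_t4 La_t5)
def La_t7 : TN := (TN.node La_t3 La_t6)
def La_t8 : TN := (TN.node (TN.node (TN.node (TN.node (TN.leaf (nat_lit 0)) (TN.leaf (nat_lit 0x1000000000000010000000100000101000100000001010000010000))) (TN.leaf (nat_lit 0))) (TN.node (TN.leaf (nat_lit 0)) (TN.leaf (nat_lit 0)))) (TN.node (TN.node (TN.leaf (nat_lit 0)) (TN.leaf (nat_lit 0))) (TN.node (TN.leaf (nat_lit 0)) (TN.leaf (nat_lit 0x1000001000100010000000000010100000000000000000001010000010100000101010001000001)))))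
def La_t9 : TN := (TN.node (TN.node (TN.node (TN.node (TN.leaf (nat_lit 0)) (TN.leaf (nat_lit 0))) (TN.leaf (nat_lit 0))) (TN.node (TN.leaf (nat_lit 0)) (TN.leaf (nat_lit 0)))) (TN.node (TN.node (TN.leaf (nat_lit 0)) (TN.leaf (nat_lit 0))) (TN.node (TN.leaf (nat_lit 0)) (TN.leaf (nat_lit 0)))))
def La_t10 : TN := (TN.node La_t8 La_t9)
def La_t11 : TN := (TN.node (TN.node (TN.node (TN.node (TN.leaf (nat_lit 0)) (TN.leaf (nat_lit 0))) (TN.leaf (nat_lit 0))) (TN.node (TN.leaf (nat_lit 0)) (TN.leaf (nat_lit 0)))) (TN.node (TN.node (TN.leaf (nat_lit 0)) (TN.leaf (nat_lit 0))) (TN.node (TN.leaf (nat_lit 0)) (TN.leaf (nat_lit 0)))))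
def La_t12 : TN := (TN.node (TN.node (TN.node (TN.node (TN.leaf (nat_lit 0)) (TN.leaf (nat_lit 0))) (TN.leaf (nat_lit 0))) (TN.node (TN.leaf (nat_lit 0)) (TN.leaf (nat_lit 0)))) (TN.node (TN.node (TN.leaf (nat_lit 0)) (TN.leaf (nat_lit 0))) (TN.node (TN.leaf (nat_lit 0)) (TN.leaf (nat_lit 0)))))
def La_t13 : TN := (TN.node La_t11 La_t12)
def La_t14 : TN := (TN.node La_t10 La_t13)
def La_t15 : TN := (TN.node La_t7 La_t14)
def La_t16 : TN := (TN.node (TN.node (TN.node (TN.node (TN.leaf (nat_lit 0)) (TN.leaf (nat_lit 0x100000001000000000000010000000100010000000001000000010000))) (TN.leaf (nat_lit 0x1010000000100010000000100010000000101000100000001))) (TN.node (TN.leaf (nat_lit 0x100000000000001000000000001)) (TN.leaf (nat_lit 0x10000000100000100000001000000000001)))) (TN.node (TN.node (TN.leaf (nat_lit 0)) (TN.leaf (nat_lit 0x100000000000000000000000000010100000100010100000000))) (TN.node (TN.leaf (nat_lit 0x100000000000100000100000101000000000000)) (TN.leaf (nat_lit 0x100000000000000000001010000000101010100000101010001000000000101010000)))))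
def La_t17 : TN := (TN.node (TN.node (TN.node (TN.node (TN.leaf (nat_lit 0)) (TN.leaf (nat_lit 0))) (TN.leaf (nat_lit 0))) (TN.node (TN.leaf (nat_lit 0)) (TN.leaf (nat_lit 0)))) (TN.node (TN.node (TN.leaf (nat_lit 0)) (TN.leaf (nat_lit 0))) (TN.node (TN.leaf (nat_lit 0)) (TN.leaf (nat_lit 0)))))
def La_t18 : TN := (TN.node La_t16 La_t17)
def La_t19 : TN := (TN.node (TN.node (TN.node (TN.node (TN.leaf (nat_lit 0)) (TN.leaf (nat_lit 0))) (TN.leaf (nat_lit 0))) (TN.node (TN.leaf (nat_lit 0)) (TN.leaf (nat_lit 0)))) (TN.node (TN.node (TN.leaf (nat_lit 0)) (TN.leaf (nat_lit 0))) (TN.node (TN.leaf (nat_lit 0)) (TN.leaf (nat_lit 0)))))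
def La_t20 : TN := (TN.node (TN.node (TN.node (TN.node (TN.leaf (nat_lit 0)) (TN.leaf (nat_lit 0))) (TN.leaf (nat_lit 0))) (TN.node (TN.leaf (nat_lit 0)) (TN.leaf (nat_lit 0)))) (TN.node (TN.node (TN.leaf (nat_lit 0)) (TN.leaf (nat_lit 0))) (TN.node (TN.leaf (nat_lit 0)) (TN.leaf (nat_lit 0)))))
def La_t21 : TN := (TN.node La_t19 La_t20)
def La_t22 : TN := (TN.node La_t18 La_t21)
def La_t23 : TN := (TN.node (TN.node (TN.node (TN.node (TN.leaf (nat_lit 0)) (TN.leaf (nat_lit 0x1000100000000000001000000000000010000000000010101000100000000010000))) (TN.leaf (nat_lit 0))) (TN.node (TN.leaf (nat_lit 0)) (TN.leaf (nat_lit 0x1000000000000000000000100000100000001010101010000000101000101010000)))) (TN.node (TN.node (TN.leaf (nat_lit 0)) (TN.leaf (nat_lit 0))) (TN.node (TN.leaf (nat_lit 0)) (TN.leaf (nat_lit 0)))))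
def La_t24 : TN := (TN.node (TN.node (TN.node (TN.node (TN.leaf (nat_lit 0)) (TN.leaf (nat_lit 0))) (TN.leaf (nat_lit 0))) (TN.node (TN.leaf (nat_lit 0)) (TN.leaf (nat_lit 0)))) (TN.node (TN.node (TN.leaf (nat_lit 0)) (TN.leaf (nat_lit 0))) (TN.node (TN.leaf (nat_lit 0)) (TN.leaf (nat_lit 0)))))
def La_t25 : TN := (TN.node La_t23 La_t24)
def La_t26 : TN := (TN.node (TN.node (TN.node (TN.node (TN.leaf (nat_lit 0)) (TN.leaf (nat_lit 0))) (TN.leaf (nat_lit 0))) (TN.node (TN.leaf (nat_lit 0)) (TN.leaf (nat_lit 0)))) (TN.node (TN.node (TN.leaf (nat_lit 0)) (TN.leaf (nat_lit 0))) (TN.node (TN.leaf (nat_lit 0)) (TN.leaf (nat_lit 0)))))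
def La_t27 : TN := (TN.node (TN.node (TN.node (TN.node (TN.leaf (nat_lit 0)) (TN.leaf (nat_lit 0))) (TN.leaf (nat_lit 0))) (TN.node (TN.leaf (nat_lit 0)) (TN.leaf (nat_lit 0)))) (TN.node (TN.node (TN.leaf (nat_lit 0)) (TN.leaf (nat_lit 0))) (TN.node (TN.leaf (nat_lit 0)) (TN.leaf (nat_lit 0)))))
def La_t28 : TN := (TN.node La_t26 La_t27)
def La_t29 : TN := (TN.node La_t25 La_t28)
def La_t30 : TN := (TN.node La_t22 La_t29)
def La_t31 : TN := (TN.node La_t15 La_t30)
def La_t32 : TN := (TN.node (TN.node (TN.node (TN.node (TN.leaf (nat_lit 0)) (TN.leaf (nat_lit 0x1010000000100000100000100000000000000010000010000010001000101))) (TN.leaf (nat_lit 0x10100000000000001000001000100))) (TN.node (TN.leaf (nat_lit 0x10000000000000000)) (TN.leaf (nat_lit 0x1000000000100000100000100000000010000000000000001010101000001)))) (TN.node (TN.node (TN.leaf (nat_lit 0x100000000000001000000000100)) (TN.leaf (nat_lit 0x1000000))) (TN.node (TN.leaf (nat_lit 0x1000000000000000000)) (TN.leaf (nat_lit 0x1000000000100000000000001000001000100)))))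
def La_t33 : TN := (TN.node (TN.node (TN.node (TN.node (TN.leaf (nat_lit 0)) (TN.leaf (nat_lit 0))) (TN.leaf (nat_lit 0))) (TN.node (TN.leaf (nat_lit 0)) (TN.leaf (nat_lit 0)))) (TN.node (TN.node (TN.leaf (nat_lit 0)) (TN.leaf (nat_lit 0))) (TN.node (TN.leaf (nat_lit 0)) (TN.leaf (nat_lit 0)))))
def La_t34 : TN := (TN.node La_t32 La_t33)
def La_t35 : TN := (TN.node (TN.node (TN.node (TN.node (TN.leaf (nat_lit 0)) (TN.leaf (nat_lit 0))) (TN.leaf (nat_lit 0))) (TN.node (TN.leaf (nat_lit 0)) (TN.leaf (nat_lit 0)))) (TN.node (TN.node (TN.leaf (nat_lit 0)) (TN.leaf (nat_lit 0))) (TN.node (TN.leaf (nat_lit 0)) (TN.leaf (nat_lit 0)))))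
def La_t36 : TN := (TN.node (TN.node (TN.node (TN.node (TN.leaf (nat_lit 0)) (TN.leaf (nat_lit 0))) (TN.leaf (nat_lit 0))) (TN.node (TN.leaf (nat_lit 0)) (TN.leaf (nat_lit 0)))) (TN.node (TN.node (TN.leaf (nat_lit 0)) (TN.leaf (nat_lit 0))) (TN.node (TN.leaf (nat_lit 0)) (TN.leaf (nat_lit 0)))))
def La_t37 : TN := (TN.node La_t35 La_t36)
def La_t38 : TN := (TN.node La_t34 La_t37)
def La_t39 : TN := (TN.node (TN.node (TN.node (TN.node (TN.leaf (nat_lit 0)) (TN.leaf (nat_lit 0x10000010000000100010100000100010000000000000000010101010001000001000001000101))) (TN.leaf (nat_lit 0))) (TN.node (TN.leaf (nat_lit 0)) (TN.leaf (nat_lit 0x101000100000000010100000100000001000000000001000000000001010001000001010000)))) (TN.node (TN.node (TN.leaf (nat_lit 0)) (TN.leaf (nat_lit 0x100000100000000010100000001000001000000000000010001010101010001010100010001))) (TN.node (TN.leaf (nat_lit 0)) (TN.leaf (nat_lit 0x100010000000000010000000000000001000100010001000100000001000000010100)))))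
def La_t40 : TN := (TN.node (TN.node (TN.node (TN.node (TN.leaf (nat_lit 0)) (TN.leaf (nat_lit 0))) (TN.leaf (nat_lit 0))) (TN.node (TN.leaf (nat_lit 0)) (TN.leaf (nat_lit 0)))) (TN.node (TN.node (TN.leaf (nat_lit 0)) (TN.leaf (nat_lit 0))) (TN.node (TN.leaf (nat_lit 0)) (TN.leaf (nat_lit 0)))))
def La_t41 : TN := (TN.node La_t39 La_t40)
def La_t42 : TN := (TN.node (TN.node (TN.node (TN.node (TN.leaf (nat_lit 0)) (TN.leaf (nat_lit 0))) (TN.leaf (nat_lit 0))) (TN.node (TN.leaf (nat_lit 0)) (TN.leaf (nat_lit 0)))) (TN.node (TN.node (TN.leaf (nat_lit 0)) (TN.leaf (nat_lit 0))) (TN.node (TN.leaf (nat_lit 0)) (TN.leaf (nat_lit 0)))))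
def La_t43 : TN := (TN.node (TN.node (TN.node (TN.node (TN.leaf (nat_lit 0)) (TN.leaf (nat_lit 0))) (TN.leaf (nat_lit 0))) (TN.node (TN.leaf (nat_lit 0)) (TN.leaf (nat_lit 0)))) (TN.node (TN.node (TN.leaf (nat_lit 0)) (TN.leaf (nat_lit 0))) (TN.node (TN.leaf (nat_lit 0)) (TN.leaf (nat_lit 0)))))
def La_t44 : TN := (TN.node La_t42 La_t43)
def La_t45 : TN := (TN.node La_t41 La_t44)
def La_t46 : TN := (TN.node La_t38 La_t45)
def La_t47 : TN := (TN.node (TN.node (TN.node (TN.node (TN.leaf (nat_lit 0)) (TN.leaf (nat_lit 0x10000000000000100000100000001000000000000))) (TN.leaf (nat_lit 0x1000100000000000000000000))) (TN.node (TN.leaf (nat_lit 0)) (TN.leaf (nat_lit 0x1000000000100010000000000010000000000000000000000)))) (TN.node (TN.node (TN.leaf (nat_lit 0)) (TN.leaf (nat_lit 0x100000000000000010000010000000000000001000000))) (TN.node (TN.leaf (nat_lit 0)) (TN.leaf (nat_lit 0x10000000000000001010000000100010100010000010100010101000101010000)))))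
def La_t48 : TN := (TN.node (TN.node (TN.node (TN.node (TN.leaf (nat_lit 0)) (TN.leaf (nat_lit 0))) (TN.leaf (nat_lit 0))) (TN.node (TN.leaf (nat_lit 0)) (TN.leaf (nat_lit 0)))) (TN.node (TN.node (TN.leaf (nat_lit 0)) (TN.leaf (nat_lit 0))) (TN.node (TN.leaf (nat_lit 0)) (TN.leaf (nat_lit 0)))))
def La_t49 : TN := (TN.node La_t47 La_t48)
def La_t50 : TN := (TN.node (TN.node (TN.node (TN.node (TN.leaf (nat_lit 0)) (TN.leaf (nat_lit 0))) (TN.leaf (nat_lit 0))) (TN.node (TN.leaf (nat_lit 0)) (TN.leaf (nat_lit 0)))) (TN.node (TN.node (TN.leaf (nat_lit 0)) (TN.leaf (nat_lit 0))) (TN.node (TN.leaf (nat_lit 0)) (TN.leaf (nat_lit 0)))))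
def La_t51 : TN := (TN.node (TN.node (TN.node (TN.node (TN.leaf (nat_lit 0)) (TN.leaf (nat_lit 0))) (TN.leaf (nat_lit 0))) (TN.node (TN.leaf (nat_lit 0)) (TN.leaf (nat_lit 0)))) (TN.node (TN.node (TN.leaf (nat_lit 0)) (TN.leaf (nat_lit 0))) (TN.node (TN.leaf (nat_lit 0)) (TN.leaf (nat_lit 0)))))
def La_t52 : TN := (TN.node La_t50 La_t51)
def La_t53 : TN := (TN.node La_t49 La_t52)
def La_t54 : TN := (TN.node (TN.node (TN.node (TN.node (TN.leaf (nat_lit 0)) (TN.leaf (nat_lit 0x10000010101000101010000000101010100010100010100000000000000010100000101010001000100))) (TN.leaf (nat_lit 0))) (TN.node (TN.leaf (nat_lit 0)) (TN.leaf (nat_lit 0)))) (TN.node (TN.node (TN.leaf (nat_lit 0)) (TN.leaf (nat_lit 0))) (TN.node (TN.leaf (nat_lit 0)) (TN.leaf (nat_lit 0)))))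
def La_t55 : TN := (TN.node (TN.node (TN.node (TN.node (TN.leaf (nat_lit 0)) (TN.leaf (nat_lit 0))) (TN.leaf (nat_lit 0))) (TN.node (TN.leaf (nat_lit 0)) (TN.leaf (nat_lit 0)))) (TN.node (TN.node (TN.leaf (nat_lit 0)) (TN.leaf (nat_lit 0))) (TN.node (TN.leaf (nat_lit 0)) (TN.leaf (nat_lit 0)))))
def La_t56 : TN := (TN.node La_t54 La_t55)
def La_t57 : TN := (TN.node (TN.node (TN.node (TN.node (TN.leaf (nat_lit 0)) (TN.leaf (nat_lit 0))) (TN.leaf (nat_lit 0))) (TN.node (TN.leaf (nat_lit 0)) (TN.leaf (nat_lit 0)))) (TN.node (TN.node (TN.leaf (nat_lit 0)) (TN.leaf (nat_lit 0))) (TN.node (TN.leaf (nat_lit 0)) (TN.leaf (nat_lit 0)))))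
def La_t58 : TN := (TN.node (TN.node (TN.node (TN.node (TN.leaf (nat_lit 0)) (TN.leaf (nat_lit 0))) (TN.leaf (nat_lit 0))) (TN.node (TN.leaf (nat_lit 0)) (TN.leaf (nat_lit 0)))) (TN.node (TN.node (TN.leaf (nat_lit 0)) (TN.leaf (nat_lit 0))) (TN.node (TN.leaf (nat_lit 0)) (TN.leaf (nat_lit 0)))))
def La_t59 : TN := (TN.node La_t57 La_t58)
def La_t60 : TN := (TN.node La_t56 La_t59)
def La_t61 : TN := (TN.node La_t53 La_t60)
def La_t62 : TN := (TN.node La_t46 La_t61)
def La_t : TN := (TN.node La_t31 La_t62)
noncomputable def La (i : ℕ) : ℕ := TN.get La_t i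
def Le_t : TN := (TN.leaf (nat_lit 0))
noncomputable def Le (i : ℕ) : ℕ := TN.get Le_t i
def C_t1 : TN := (TN.node (TN.node (TN.node (TN.node (TN.leaf (nat_lit 0)) (TN.leaf (nat_lit 0))) (TN.node (TN.leaf (nat_lit 0)) (TN.leaf (nat_lit 0)))) (TN.node (TN.node (TN.leaf (nat_lit 0)) (TN.leaf (nat_lit 0))) (TN.node (TN.leaf (nat_lit 0)) (TN.leaf (nat_lit 0))))) (TN.node (TN.node (TN.node (TN.leaf (nat_lit 0x1000000000000000000000000000000000000000100000000000000000000000000000000000000000000000000000000000000000000000000000000)) (TN.leaf (nat_lit 0))) (TN.node (TN.leaf (nat_lit 0)) (TN.leaf (nat_lit 0)))) (TN.node (TN.node (TN.leaf (nat_lit 0)) (TN.leaf (nat_lit 0))) (TN.node (TN.leaf (nat_lit 0)) (TN.leaf (nat_lit 0))))))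
def C_t2 : TN := (TN.node (TN.node (TN.node (TN.node (TN.leaf (nat_lit 0x10000000000000000000000000000000000000000000000000000000000000000000000000000000000000000000000000000000000000000000000000000000000000000000000000000000000000000)) (TN.leaf (nat_lit 0))) (TN.node (TN.leaf (nat_lit 0)) (TN.leaf (nat_lit 0)))) (TN.node (TN.node (TN.leaf (nat_lit 0)) (TN.leaf (nat_lit 0))) (TN.node (TN.leaf (nat_lit 0)) (TN.leaf (nat_lit 0))))) (TN.node (TN.node (TN.node (TN.leaf (nat_lit 0x1000000000000000000000000000000000000000000000000000000000000000000000000000000010000000000000000000000000000000000000000000000000000000000000000000000000000000000000001000000000000000000000000000000000000000000000000000000000000000000000000000000000000000000000000000000000000000000000000)) (TN.leaf (nat_lit 0))) (TN.node (TN.leaf (nat_lit 0)) (TN.leaf (nat_lit 0)))) (TN.node (TN.node (TN.leaf (nat_lit 0)) (TN.leaf (nat_lit 0))) (TN.node (TN.leaf (nat_lit 0)) (TN.leaf (nat_lit 0))))))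
def C_t3 : TN := (TN.node C_t1 C_t2)
def C_t4 : TN := (TN.node (TN.node (TN.node (TN.node (TN.leaf (nat_lit 0x100000000000000000000000000000000000000000000000000000000000000000000000000000000)) (TN.leaf (nat_lit 0))) (TN.node (TN.leaf (nat_lit 0)) (TN.leaf (nat_lit 0)))) (TN.node (TN.node (TN.leaf (nat_lit 0)) (TN.leaf (nat_lit 0))) (TN.node (TN.leaf (nat_lit 0)) (TN.leaf (nat_lit 0))))) (TN.node (TN.node (TN.node (TN.leaf (nat_lit 0x1000000010000000000000000000000000000000000000000000000000000000000000000000000010000000000000000000000000000000000000000000000010000000000000000000000000000000000000001000000000000000000000000000000000000000100000000000000000000000000000000000000000000000000000000000000000000000000000000)) (TN.leaf (nat_lit 0))) (TN.node (TN.leaf (nat_lit 0)) (TN.leaf (nat_lit 0)))) (TN.node (TN.node (TN.leaf (nat_lit 0)) (TN.leaf (nat_lit 0))) (TN.node (TN.leaf (nat_lit 0)) (TN.leaf (nat_lit 0))))))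
def C_t5 : TN := (TN.node (TN.node (TN.node (TN.node (TN.leaf (nat_lit 0x10000000000000000000000000000000000000000000000000000000000000000000000000000000000000000000000000000000000000000000000000000000000000000000000000000000000000000000000000000000000000000000000000000000000000000)) (TN.leaf (nat_lit 0))) (TN.node (TN.leaf (nat_lit 0)) (TN.leaf (nat_lit 0)))) (TN.node (TN.node (TN.leaf (nat_lit 0)) (TN.leaf (nat_lit 0))) (TN.node (TN.leaf (nat_lit 0)) (TN.leaf (nat_lit 0))))) (TN.node (TN.node (TN.node (TN.leaf (nat_lit 0)) (TN.leaf (nat_lit 0))) (TN.node (TN.leaf (nat_lit 0)) (TN.leaf (nat_lit 0)))) (TN.node (TN.node (TN.leaf (nat_lit 0)) (TN.leaf (nat_lit 0))) (TN.node (TN.leaf (nat_lit 0)) (TN.leaf (nat_lit 0))))))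
def C_t6 : TN := (TN.node C_t4 C_t5)
def C_t : TN := (TN.node C_t3 C_t6)
noncomputable def C (i : ℕ) : ℕ := TN.get C_t i
def e (i : ℕ) : ℕ := Nat.land (Nat.shiftRight (nat_lit 0) (Nat.mul (nat_lit 1) i)) (nat_lit 1)
def U_t : TL := (TL.node (TL.node (TL.node (TL.node (TL.node (TL.node (TL.leaf [nat_lit 10]) (TL.leaf [nat_lit 5])) (TL.leaf [nat_lit 4])) (TL.node (TL.node (TL.leaf [nat_lit 3]) (TL.leaf [nat_lit 10])) (TL.leaf [nat_lit 6]))) (TL.node (TL.node (TL.node (TL.leaf [nat_lit 7]) (TL.leaf [nat_lit 12])) (TL.leaf [nat_lit 5])) (TL.node (TL.leaf [nat_lit 5]) (TL.leaf [nat_lit 5])))) (TL.node (TL.node (TL.node (TL.node (TL.leaf [nat_lit 4]) (TL.leaf [nat_lit 5])) (TL.leaf [nat_lit 6])) (TL.node (TL.node (TL.leaf [nat_lit 4]) (TL.leaf [nat_lit 10])) (TL.leaf [nat_lit 8]))) (TL.node (TL.node (TL.node (TL.leaf [nat_lit 1]) (TL.leaf [nat_lit 12])) (TL.leaf [nat_lit 5])) (TL.node (TL.leaf [nat_lit 5]) (TL.leaf [nat_lit 6]))))) (TL.node (TL.node (TL.node (TL.node (TL.node (TL.leaf [nat_lit 10]) (TL.leaf [nat_lit 12])) (TL.leaf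 [nat_lit 5])) (TL.node (TL.node (TL.leaf [nat_lit 4]) (TL.leaf [nat_lit 10])) (TL.leaf [nat_lit 10]))) (TL.node (TL.node (TL.node (TL.leaf [nat_lit 9]) (TL.leaf [nat_lit 10])) (TL.leaf [nat_lit 10])) (TL.node (TL.leaf [nat_lit 2]) (TL.leaf [nat_lit 10])))) (TL.node (TL.node (TL.node (TL.node (TL.leaf [nat_lit 6]) (TL.leaf [nat_lit 12])) (TL.leaf [nat_lit 3])) (TL.node (TL.node (TL.leaf [nat_lit 4]) (TL.leaf [nat_lit 10])) (TL.leaf [nat_lit 8]))) (TL.node (TL.node (TL.node (TL.leaf [nat_lit 3]) (TL.leaf [nat_lit 7])) (TL.leaf [nat_lit 5])) (TL.node (TL.leaf [nat_lit 12]) (TL.leaf [nat_lit 12]))))))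
noncomputable def U (i : ℕ) : List ℕ := TL.get U_t i
def V1_t : TL := (TL.node (TL.node (TL.node (TL.node (TL.node (TL.node (TL.leaf [nat_lit 3, nat_lit 3]) (TL.leaf [nat_lit 5, nat_lit 8])) (TL.leaf [nat_lit 4, nat_lit 8])) (TL.node (TL.node (TL.leaf [nat_lit 6, nat_lit 6]) (TL.leaf [nat_lit 6, nat_lit 6])) (TL.leaf [nat_lit 7, nat_lit 7]))) (TL.node (TL.node (TL.node (TL.leaf [nat_lit 7, nat_lit 7]) (TL.leaf [nat_lit 4, nat_lit 4])) (TL.leaf [nat_lit 9, nat_lit 9])) (TL.node (TL.leaf [nat_lit 5, nat_lit 5]) (TL.leaf [nat_lit 7, nat_lit 9])))) (TL.node (TL.node (TL.node (TL.node (TL.leaf [nat_lit 4, nat_lit 4]) (TL.leaf [nat_lit 8, nat_lit 8])) (TL.leaf [nat_lit 6, nat_lit 8])) (TL.node (TL.node (TL.leaf [nat_lit 4, nat_lit 5]) (TL.leaf [nat_lit 11, nat_lit 11])) (TL.leaf [nat_lit 8, nat_lit 8]))) (TL.node (TL.node (TL.node (TL.leaf [nat_lit 6, nat_lit 6]) (TL.leaf [nat_lit 3, nat_lit 3])) (TL.leaf [nat_lit 5, nat_lit 6])) (TL.node (TL.leaf [nat_lit 6, nat_lit 6]) (TL.leaf [nat_lit 6, nat_lit 7]))))) (TL.node (TL.node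 (TL.node (TL.node (TL.node (TL.leaf [nat_lit 1, nat_lit 1]) (TL.leaf [nat_lit 4, nat_lit 7])) (TL.leaf [nat_lit 7, nat_lit 7])) (TL.node (TL.node (TL.leaf [nat_lit 6, nat_lit 6]) (TL.leaf [nat_lit 7, nat_lit 7])) (TL.leaf [nat_lit 3, nat_lit 6]))) (TL.node (TL.node (TL.node (TL.leaf [nat_lit 9, nat_lit 9]) (TL.leaf [nat_lit 2, nat_lit 7])) (TL.leaf [nat_lit 4, nat_lit 4])) (TL.node (TL.leaf [nat_lit 2, nat_lit 7]) (TL.leaf [nat_lit 1, nat_lit 6])))) (TL.node (TL.node (TL.node (TL.node (TL.leaf [nat_lit 6, nat_lit 6]) (TL.leaf [nat_lit 9, nat_lit 9])) (TL.leaf [nat_lit 5, nat_lit 5])) (TL.node (TL.node (TL.leaf [nat_lit 4, nat_lit 6]) (TL.leaf [nat_lit 6, nat_lit 7])) (TL.leaf [nat_lit 9, nat_lit 9]))) (TL.node (TL.node (TL.node (TL.leaf [nat_lit 4, nat_lit 4]) (TL.leaf [nat_lit 8, nat_lit 8])) (TL.leaf [nat_lit 5, nat_lit 7])) (TL.node (TL.leaf [nat_lit 7, nat_lit 7]) (TL.leaf [nat_lit 7, nat_lit 9]))))))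
noncomputable def V1 (i : ℕ) : List ℕ := TL.get V1_t i
def V2_t : TL := (TL.node (TL.node (TL.node (TL.node (TL.node (TL.node (TL.leaf []) (TL.leaf [nat_lit 8, nat_lit 5, nat_lit 3, nat_lit 2, nat_lit 1])) (TL.leaf [nat_lit 8, nat_lit 4, nat_lit 1])) (TL.node (TL.node (TL.leaf [nat_lit 2]) (TL.leaf [nat_lit 2])) (TL.leaf [nat_lit 1]))) (TL.node (TL.node (TL.node (TL.leaf [nat_lit 1]) (TL.leaf [nat_lit 1])) (TL.leaf [nat_lit 1])) (TL.node (TL.leaf [nat_lit 4, nat_lit 1]) (TL.leaf [nat_lit 9, nat_lit 7, nat_lit 1])))) (TL.node (TL.node (TL.node (TL.node (TL.leaf [nat_lit 1]) (TL.leaf [nat_lit 6, nat_lit 4, nat_lit 3, nat_lit 1])) (TL.leaf [nat_lit 8, nat_lit 6, nat_lit 2])) (TL.node (TL.node (TL.leaf [nat_lit 5, nat_lit 4]) (TL.leaf [nat_lit 3, nat_lit 2])) (TL.leaf [nat_lit 6, nat_lit 4, nat_lit 3, nat_lit 1]))) (TL.node (TL.node (TL.node (TL.leaf [nat_lit 2]) (TL.leaf [])) (TL.leaf [nat_lit 6, nat_lit 5, nat_lit 2])) (TL.node (TL.leaf [nat_lit 2]) (TL.leaf [nat_lit 7, nat_lit 6, nat_lit 4, nat_lit 3]))))) (TL.node (TL.node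 (TL.node (TL.node (TL.node (TL.leaf []) (TL.leaf [nat_lit 7, nat_lit 4, nat_lit 1])) (TL.leaf [nat_lit 1])) (TL.node (TL.node (TL.leaf [nat_lit 2]) (TL.leaf [nat_lit 1])) (TL.leaf [nat_lit 6, nat_lit 3]))) (TL.node (TL.node (TL.node (TL.leaf [nat_lit 1]) (TL.leaf [nat_lit 7, nat_lit 2, nat_lit 1])) (TL.leaf [nat_lit 1])) (TL.node (TL.leaf [nat_lit 7, nat_lit 2, nat_lit 1]) (TL.leaf [nat_lit 6, nat_lit 1])))) (TL.node (TL.node (TL.node (TL.node (TL.leaf [nat_lit 2]) (TL.leaf [nat_lit 1])) (TL.leaf [nat_lit 4, nat_lit 1])) (TL.node (TL.node (TL.leaf [nat_lit 6, nat_lit 4]) (TL.leaf [nat_lit 7, nat_lit 6, nat_lit 4, nat_lit 3])) (TL.leaf [nat_lit 1]))) (TL.node (TL.node (TL.node (TL.leaf [nat_lit 1]) (TL.leaf [nat_lit 6, nat_lit 4, nat_lit 3, nat_lit 1])) (TL.leaf [nat_lit 7, nat_lit 5, nat_lit 3])) (TL.node (TL.leaf [nat_lit 1]) (TL.leaf [nat_lit 9, nat_lit 7, nat_lit 1]))))))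
noncomputable def V2 (i : ℕ) : List ℕ := TL.get V2_t i
def Y_t : TL := (TL.node (TL.node (TL.node (TL.node (TL.leaf [nat_lit 9, nat_lit 8, nat_lit 7]) (TL.leaf [nat_lit 7, nat_lit 4, nat_lit 3, nat_lit 1])) (TL.leaf [nat_lit 5, nat_lit 4, nat_lit 3, nat_lit 1])) (TL.node (TL.leaf [nat_lit 9, nat_lit 8, nat_lit 7, nat_lit 1]) (TL.leaf [nat_lit 3, nat_lit 2, nat_lit 1]))) (TL.node (TL.node (TL.leaf [nat_lit 2]) (TL.leaf [nat_lit 9, nat_lit 4, nat_lit 1])) (TL.node (TL.leaf [nat_lit 4, nat_lit 1]) (TL.leaf [nat_lit 6, nat_lit 5, nat_lit 3, nat_lit 2]))))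
noncomputable def Y (i : ℕ) : List ℕ := TL.get Y_t i
def O_t : TL := (TL.node (TL.node (TL.node (TL.node (TL.leaf [nat_lit 0]) (TL.leaf [nat_lit 9154, nat_lit 99749, nat_lit 113301, nat_lit 119345])) (TL.leaf [nat_lit 3544, nat_lit 66131])) (TL.node (TL.leaf [nat_lit 746]) (TL.leaf [nat_lit 9154]))) (TL.node (TL.node (TL.leaf [nat_lit 53]) (TL.leaf [nat_lit 113301])) (TL.node (TL.leaf [nat_lit 3544]) (TL.leaf [nat_lit 9154, nat_lit 99749]))))
noncomputable def O (i : ℕ) : List ℕ := TL.get O_t i
noncomputable def f1 : ℕ → ℕ := rvE Q B (nat_lit 22) Ru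
noncomputable def f2 (j : ℕ) : ℕ := rlE I Ru (nat_lit 60) (nat_lit 2) (U j) (V1 j) (V2 j) (D j)
noncomputable def f3 : ℕ → ℕ := tgR I Ru (nat_lit 60) (nat_lit 2) (nat_lit 2) C D (nat_lit 44) La
noncomputable def f4 : ℕ → ℕ := chE Q B (nat_lit 122760) (nat_lit 22) (nat_lit 9) (nat_lit 13) Y O
theorem ra0 : Nat.beq (rng f1 (nat_lit 0) (nat_lit 60)) (nat_lit 0) = true := by decide +kernel
theorem rb0 : Nat.beq (rng f2 (nat_lit 0) (nat_lit 44)) (nat_lit 0) = true := by decide +kernel
theorem rc0 : Nat.beq (rng f3 (nat_lit 0) (nat_lit 9)) (nat_lit 0) = true := by decide +kernel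
theorem rd0 : Nat.beq (rng f4 (nat_lit 0) (nat_lit 9)) (nat_lit 0) = true := by decide +kernel
theorem h1 : ∀ i < 60, f1 i = 0 := by
  have h := zero_lt_zero f1
  have h := zero_lt_add (a := (nat_lit 0)) (n := (nat_lit 60)) (b := (nat_lit 60)) h ra0 rfl
  exact h
theorem h2 : ∀ i < 44, f2 i = 0 := by
  have h := zero_lt_zero f2
  have h := zero_lt_add (a := (nat_lit 0)) (n := (nat_lit 44)) (b := (nat_lit 44)) h rb0 rfl
  exact h
theorem h3 : ∀ i < 9, f3 i = 0 := by
  have h := zero_lt_zero f3
  have h := zero_lt_add (a := (nat_lit 0)) (n := (nat_lit 9)) (b := (nat_lit 9)) h rc0 rfl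
  exact h
theorem h4 : ∀ i < 9, f4 i = 0 := by
  have h := zero_lt_zero f4
  have h := zero_lt_add (a := (nat_lit 0)) (n := (nat_lit 9)) (b := (nat_lit 9)) h rd0 rfl
  exact h
theorem nok : NoK (Cfsg.Spor.ON) (2 ^ (0 + 1)) := fun _ _ _ _ h =>
  (md.rv (I := I) (K := 60) rfl ⟨rfl, by decide⟩ (upTo_beq (by decide +kernel)) h1).core h (by norm_num)
    (md.syl (by norm_num) rfl (by decide) h4) (by rw [ON.card]; decide) (n := 2) (s := 0) (e := e) (L := Le) (C := C)
    ⟨rfl, by decide, rfl, by decide, by decide, rfl, by decide⟩ h2 (upTo_beq (by decide +kernel)) (upTo_beq (by decide +kernel)) h3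

end Cfsg.Agent.Ct.ONs.S2
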