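import Cfsg.Agent.Lib.Cert.ONs.V0D

set_option autoImplicit false
set_option maxRecDepth 100000

namespace Cfsg.Agent.Ct.ONs.V0

open Cfsg.Agent.PC

theorem ca75000 : Nat.beq (rng f1 (nat_lit 75000) (nat_lit 9375)) (nat_lit 0) = true := by decide +kernel
theorem ca84375 : Nat.beq (rng f1 (nat_lit 84375) (nat_lit 9375)) (nat_lit 0) = true := by decide +kernel
theorem ca93750 : Nat.beq (rng f1 (nat_lit 93750) (nat_lit 9375)) (nat_lit 0) = true := by decide +kernel
theorem ca103125 : Nat.beq (rng f1 (nat_lit 103125) (nat_lit 9375)) (nat_lit 0) = true := by decide +kernel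
theorem ca112500 : Nat.beq (rng f1 (nat_lit 112500) (nat_lit 9375)) (nat_lit 0) = true := by decide +kernel
theorem ca121875 : Nat.beq (rng f1 (nat_lit 121875) (nat_lit 9375)) (nat_lit 0) = true := by decide +kernel
theorem ca131250 : Nat.beq (rng f1 (nat_lit 131250) (nat_lit 9375)) (nat_lit 0) = true := by decide +kernel
theorem ca140625 : Nat.beq (rng f1 (nat_lit 140625) (nat_lit 9375)) (nat_lit 0) = true := by decide +kernel

end Cfsg.Agent.Ct.ONs.V0
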