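import Cfsg.Agent.Lib.Cert.ONs.V0D

set_option autoImplicit false
set_option maxRecDepth 100000

namespace Cfsg.Agent.Ct.ONs.V0

open Cfsg.Agent.PC

theorem cb32960 : Nat.beq (rng f2 (nat_lit 32960) (nat_lit 824)) (nat_lit 0) = true := by decide +kernel
theorem cb33784 : Nat.beq (rng f2 (nat_lit 33784) (nat_lit 824)) (nat_lit 0) = true := by decide +kernel
theorem cb34608 : Nat.beq (rng f2 (nat_lit 34608) (nat_lit 824)) (nat_lit 0) = true := by decide +kernel
theorem cb35432 : Nat.beq (rng f2 (nat_lit 35432) (nat_lit 824)) (nat_lit 0) = true := by decide +kernel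
theorem cb36256 : Nat.beq (rng f2 (nat_lit 36256) (nat_lit 824)) (nat_lit 0) = true := by decide +kernel
theorem cb37080 : Nat.beq (rng f2 (nat_lit 37080) (nat_lit 824)) (nat_lit 0) = true := by decide +kernel
theorem cb37904 : Nat.beq (rng f2 (nat_lit 37904) (nat_lit 824)) (nat_lit 0) = true := by decide +kernel
theorem cb38728 : Nat.beq (rng f2 (nat_lit 38728) (nat_lit 824)) (nat_lit 0) = true := by decide +kernel

end Cfsg.Agent.Ct.ONs.V0
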