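import Cfsg.Agent.Lib.Cert.ONs.V0D

set_option autoImplicit false
set_option maxRecDepth 100000

namespace Cfsg.Agent.Ct.ONs.V0

open Cfsg.Agent.PC

theorem cb39552 : Nat.beq (rng f2 (nat_lit 39552) (nat_lit 824)) (nat_lit 0) = true := by decide +kernel
theorem cb40376 : Nat.beq (rng f2 (nat_lit 40376) (nat_lit 824)) (nat_lit 0) = true := by decide +kernel
theorem cb41200 : Nat.beq (rng f2 (nat_lit 41200) (nat_lit 824)) (nat_lit 0) = true := by decide +kernel
theorem cb42024 : Nat.beq (rng f2 (nat_lit 42024) (nat_lit 824)) (nat_lit 0) = true := by decide +kernel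
theorem cb42848 : Nat.beq (rng f2 (nat_lit 42848) (nat_lit 824)) (nat_lit 0) = true := by decide +kernel
theorem cb43672 : Nat.beq (rng f2 (nat_lit 43672) (nat_lit 824)) (nat_lit 0) = true := by decide +kernel
theorem cb44496 : Nat.beq (rng f2 (nat_lit 44496) (nat_lit 824)) (nat_lit 0) = true := by decide +kernel
theorem cb45320 : Nat.beq (rng f2 (nat_lit 45320) (nat_lit 824)) (nat_lit 0) = true := by decide +kernel

end Cfsg.Agent.Ct.ONs.V0
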