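import Cfsg.Agent.Lib.Cert.ONs.V0D

set_option autoImplicit false
set_option maxRecDepth 100000

namespace Cfsg.Agent.Ct.ONs.V0

open Cfsg.Agent.PC

theorem cb46144 : Nat.beq (rng f2 (nat_lit 46144) (nat_lit 824)) (nat_lit 0) = true := by decide +kernel
theorem cb46968 : Nat.beq (rng f2 (nat_lit 46968) (nat_lit 824)) (nat_lit 0) = true := by decide +kernel
theorem cb47792 : Nat.beq (rng f2 (nat_lit 47792) (nat_lit 824)) (nat_lit 0) = true := by decide +kernel
theorem cb48616 : Nat.beq (rng f2 (nat_lit 48616) (nat_lit 824)) (nat_lit 0) = true := by decide +kernel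
theorem cb49440 : Nat.beq (rng f2 (nat_lit 49440) (nat_lit 824)) (nat_lit 0) = true := by decide +kernel
theorem cb50264 : Nat.beq (rng f2 (nat_lit 50264) (nat_lit 824)) (nat_lit 0) = true := by decide +kernel
theorem cb51088 : Nat.beq (rng f2 (nat_lit 51088) (nat_lit 824)) (nat_lit 0) = true := by decide +kernel
theorem cb51912 : Nat.beq (rng f2 (nat_lit 51912) (nat_lit 824)) (nat_lit 0) = true := by decide +kernel

end Cfsg.Agent.Ct.ONs.V0
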