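import Cfsg.Agent.Lib.Cert.ONs.V0D

set_option autoImplicit false
set_option maxRecDepth 100000

namespace Cfsg.Agent.Ct.ONs.V0

open Cfsg.Agent.PC

theorem cb59328 : Nat.beq (rng f2 (nat_lit 59328) (nat_lit 824)) (nat_lit 0) = true := by decide +kernel
theorem cb60152 : Nat.beq (rng f2 (nat_lit 60152) (nat_lit 824)) (nat_lit 0) = true := by decide +kernel
theorem cb60976 : Nat.beq (rng f2 (nat_lit 60976) (nat_lit 824)) (nat_lit 0) = true := by decide +kernel
theorem cb61800 : Nat.beq (rng f2 (nat_lit 61800) (nat_lit 824)) (nat_lit 0) = true := by decide +kernel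
theorem cb62624 : Nat.beq (rng f2 (nat_lit 62624) (nat_lit 824)) (nat_lit 0) = true := by decide +kernel
theorem cb63448 : Nat.beq (rng f2 (nat_lit 63448) (nat_lit 824)) (nat_lit 0) = true := by decide +kernel
theorem cb64272 : Nat.beq (rng f2 (nat_lit 64272) (nat_lit 824)) (nat_lit 0) = true := by decide +kernel
theorem cb65096 : Nat.beq (rng f2 (nat_lit 65096) (nat_lit 824)) (nat_lit 0) = true := by decide +kernel

end Cfsg.Agent.Ct.ONs.V0
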