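import Cfsg.Agent.Lib.Cert.ONs.V0D

set_option autoImplicit false
set_option maxRecDepth 100000

namespace Cfsg.Agent.Ct.ONs.V0

open Cfsg.Agent.PC

theorem cb65920 : Nat.beq (rng f2 (nat_lit 65920) (nat_lit 824)) (nat_lit 0) = true := by decide +kernel
theorem cb66744 : Nat.beq (rng f2 (nat_lit 66744) (nat_lit 824)) (nat_lit 0) = true := by decide +kernel
theorem cb67568 : Nat.beq (rng f2 (nat_lit 67568) (nat_lit 824)) (nat_lit 0) = true := by decide +kernel
theorem cb68392 : Nat.beq (rng f2 (nat_lit 68392) (nat_lit 824)) (nat_lit 0) = true := by decide +kernel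
theorem cb69216 : Nat.beq (rng f2 (nat_lit 69216) (nat_lit 824)) (nat_lit 0) = true := by decide +kernel
theorem cb70040 : Nat.beq (rng f2 (nat_lit 70040) (nat_lit 824)) (nat_lit 0) = true := by decide +kernel
theorem cb70864 : Nat.beq (rng f2 (nat_lit 70864) (nat_lit 824)) (nat_lit 0) = true := by decide +kernel
theorem cb71688 : Nat.beq (rng f2 (nat_lit 71688) (nat_lit 824)) (nat_lit 0) = true := by decide +kernel

end Cfsg.Agent.Ct.ONs.V0
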