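import Cfsg.Agent.Lib.Cert.ONs.V0D

set_option autoImplicit false
set_option maxRecDepth 100000

namespace Cfsg.Agent.Ct.ONs.V0

open Cfsg.Agent.PC

theorem cb72512 : Nat.beq (rng f2 (nat_lit 72512) (nat_lit 824)) (nat_lit 0) = true := by decide +kernel
theorem cb73336 : Nat.beq (rng f2 (nat_lit 73336) (nat_lit 824)) (nat_lit 0) = true := by decide +kernel
theorem cb74160 : Nat.beq (rng f2 (nat_lit 74160) (nat_lit 824)) (nat_lit 0) = true := by decide +kernel
theorem cb74984 : Nat.beq (rng f2 (nat_lit 74984) (nat_lit 824)) (nat_lit 0) = true := by decide +kernel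
theorem cb75808 : Nat.beq (rng f2 (nat_lit 75808) (nat_lit 824)) (nat_lit 0) = true := by decide +kernel
theorem cb76632 : Nat.beq (rng f2 (nat_lit 76632) (nat_lit 824)) (nat_lit 0) = true := by decide +kernel
theorem cb77456 : Nat.beq (rng f2 (nat_lit 77456) (nat_lit 824)) (nat_lit 0) = true := by decide +kernel
theorem cb78280 : Nat.beq (rng f2 (nat_lit 78280) (nat_lit 824)) (nat_lit 0) = true := by decide +kernel

end Cfsg.Agent.Ct.ONs.V0
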