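import Cfsg.Agent.Lib.Cert.ONs.V0D

set_option autoImplicit false
set_option maxRecDepth 100000

namespace Cfsg.Agent.Ct.ONs.V0

open Cfsg.Agent.PC

theorem cb79104 : Nat.beq (rng f2 (nat_lit 79104) (nat_lit 824)) (nat_lit 0) = true := by decide +kernel
theorem cb79928 : Nat.beq (rng f2 (nat_lit 79928) (nat_lit 824)) (nat_lit 0) = true := by decide +kernel
theorem cb80752 : Nat.beq (rng f2 (nat_lit 80752) (nat_lit 824)) (nat_lit 0) = true := by decide +kernel
theorem cb81576 : Nat.beq (rng f2 (nat_lit 81576) (nat_lit 824)) (nat_lit 0) = true := by decide +kernel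
theorem cb82400 : Nat.beq (rng f2 (nat_lit 82400) (nat_lit 824)) (nat_lit 0) = true := by decide +kernel
theorem cb83224 : Nat.beq (rng f2 (nat_lit 83224) (nat_lit 824)) (nat_lit 0) = true := by decide +kernel
theorem cb84048 : Nat.beq (rng f2 (nat_lit 84048) (nat_lit 824)) (nat_lit 0) = true := by decide +kernel
theorem cb84872 : Nat.beq (rng f2 (nat_lit 84872) (nat_lit 824)) (nat_lit 0) = true := by decide +kernel

end Cfsg.Agent.Ct.ONs.V0
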