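import Cfsg.Agent.Lib.Cert.ONs.V0D

set_option autoImplicit false
set_option maxRecDepth 100000

namespace Cfsg.Agent.Ct.ONs.V0

open Cfsg.Agent.PC

theorem cb85696 : Nat.beq (rng f2 (nat_lit 85696) (nat_lit 824)) (nat_lit 0) = true := by decide +kernel
theorem cb86520 : Nat.beq (rng f2 (nat_lit 86520) (nat_lit 824)) (nat_lit 0) = true := by decide +kernel
theorem cb87344 : Nat.beq (rng f2 (nat_lit 87344) (nat_lit 824)) (nat_lit 0) = true := by decide +kernel
theorem cb88168 : Nat.beq (rng f2 (nat_lit 88168) (nat_lit 824)) (nat_lit 0) = true := by decide +kernel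
theorem cb88992 : Nat.beq (rng f2 (nat_lit 88992) (nat_lit 824)) (nat_lit 0) = true := by decide +kernel
theorem cb89816 : Nat.beq (rng f2 (nat_lit 89816) (nat_lit 824)) (nat_lit 0) = true := by decide +kernel
theorem cb90640 : Nat.beq (rng f2 (nat_lit 90640) (nat_lit 824)) (nat_lit 0) = true := by decide +kernel
theorem cb91464 : Nat.beq (rng f2 (nat_lit 91464) (nat_lit 824)) (nat_lit 0) = true := by decide +kernel

end Cfsg.Agent.Ct.ONs.V0
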