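import Cfsg.Agent.Lib.Cert.ONs.V0D

set_option autoImplicit false
set_option maxRecDepth 100000

namespace Cfsg.Agent.Ct.ONs.V0

open Cfsg.Agent.PC

theorem cb92288 : Nat.beq (rng f2 (nat_lit 92288) (nat_lit 824)) (nat_lit 0) = true := by decide +kernel
theorem cb93112 : Nat.beq (rng f2 (nat_lit 93112) (nat_lit 824)) (nat_lit 0) = true := by decide +kernel
theorem cb93936 : Nat.beq (rng f2 (nat_lit 93936) (nat_lit 824)) (nat_lit 0) = true := by decide +kernel
theorem cb94760 : Nat.beq (rng f2 (nat_lit 94760) (nat_lit 824)) (nat_lit 0) = true := by decide +kernel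
theorem cb95584 : Nat.beq (rng f2 (nat_lit 95584) (nat_lit 824)) (nat_lit 0) = true := by decide +kernel
theorem cb96408 : Nat.beq (rng f2 (nat_lit 96408) (nat_lit 824)) (nat_lit 0) = true := by decide +kernel
theorem cb97232 : Nat.beq (rng f2 (nat_lit 97232) (nat_lit 824)) (nat_lit 0) = true := by decide +kernel
theorem cb98056 : Nat.beq (rng f2 (nat_lit 98056) (nat_lit 824)) (nat_lit 0) = true := by decide +kernel

end Cfsg.Agent.Ct.ONs.V0
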