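import Cfsg.Agent.Lib.Cert.ONs.V0D

set_option autoImplicit false
set_option maxRecDepth 100000

namespace Cfsg.Agent.Ct.ONs.V0

open Cfsg.Agent.PC

theorem ca150000 : Nat.beq (rng f1 (nat_lit 150000) (nat_lit 9375)) (nat_lit 0) = true := by decide +kernel
theorem ca159375 : Nat.beq (rng f1 (nat_lit 159375) (nat_lit 9375)) (nat_lit 0) = true := by decide +kernel
theorem ca168750 : Nat.beq (rng f1 (nat_lit 168750) (nat_lit 9375)) (nat_lit 0) = true := by decide +kernel
theorem ca178125 : Nat.beq (rng f1 (nat_lit 178125) (nat_lit 9375)) (nat_lit 0) = true := by decide +kernel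
theorem ca187500 : Nat.beq (rng f1 (nat_lit 187500) (nat_lit 9375)) (nat_lit 0) = true := by decide +kernel
theorem ca196875 : Nat.beq (rng f1 (nat_lit 196875) (nat_lit 9375)) (nat_lit 0) = true := by decide +kernel
theorem ca206250 : Nat.beq (rng f1 (nat_lit 206250) (nat_lit 9375)) (nat_lit 0) = true := by decide +kernel
theorem ca215625 : Nat.beq (rng f1 (nat_lit 215625) (nat_lit 9375)) (nat_lit 0) = true := by decide +kernel

end Cfsg.Agent.Ct.ONs.V0
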