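import Cfsg.Agent.Lib.Cert.ONs.V0D

set_option autoImplicit false
set_option maxRecDepth 100000

namespace Cfsg.Agent.Ct.ONs.V0

open Cfsg.Agent.PC

theorem cb98880 : Nat.beq (rng f2 (nat_lit 98880) (nat_lit 824)) (nat_lit 0) = true := by decide +kernel
theorem cb99704 : Nat.beq (rng f2 (nat_lit 99704) (nat_lit 824)) (nat_lit 0) = true := by decide +kernel
theorem cb100528 : Nat.beq (rng f2 (nat_lit 100528) (nat_lit 824)) (nat_lit 0) = true := by decide +kernel
theorem cb101352 : Nat.beq (rng f2 (nat_lit 101352) (nat_lit 824)) (nat_lit 0) = true := by decide +kernel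
theorem cb102176 : Nat.beq (rng f2 (nat_lit 102176) (nat_lit 824)) (nat_lit 0) = true := by decide +kernel
theorem cb103000 : Nat.beq (rng f2 (nat_lit 103000) (nat_lit 824)) (nat_lit 0) = true := by decide +kernel
theorem cb103824 : Nat.beq (rng f2 (nat_lit 103824) (nat_lit 824)) (nat_lit 0) = true := by decide +kernel
theorem cb104648 : Nat.beq (rng f2 (nat_lit 104648) (nat_lit 824)) (nat_lit 0) = true := by decide +kernel

end Cfsg.Agent.Ct.ONs.V0
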