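import Cfsg.Agent.Lib.Cert.ONs.V0D

set_option autoImplicit false
set_option maxRecDepth 100000

namespace Cfsg.Agent.Ct.ONs.V0

open Cfsg.Agent.PC

theorem cb105472 : Nat.beq (rng f2 (nat_lit 105472) (nat_lit 824)) (nat_lit 0) = true := by decide +kernel
theorem cb106296 : Nat.beq (rng f2 (nat_lit 106296) (nat_lit 824)) (nat_lit 0) = true := by decide +kernel
theorem cb107120 : Nat.beq (rng f2 (nat_lit 107120) (nat_lit 824)) (nat_lit 0) = true := by decide +kernel
theorem cb107944 : Nat.beq (rng f2 (nat_lit 107944) (nat_lit 824)) (nat_lit 0) = true := by decide +kernel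
theorem cb108768 : Nat.beq (rng f2 (nat_lit 108768) (nat_lit 824)) (nat_lit 0) = true := by decide +kernel
theorem cb109592 : Nat.beq (rng f2 (nat_lit 109592) (nat_lit 824)) (nat_lit 0) = true := by decide +kernel
theorem cb110416 : Nat.beq (rng f2 (nat_lit 110416) (nat_lit 824)) (nat_lit 0) = true := by decide +kernel
theorem cb111240 : Nat.beq (rng f2 (nat_lit 111240) (nat_lit 824)) (nat_lit 0) = true := by decide +kernel

end Cfsg.Agent.Ct.ONs.V0
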