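import Cfsg.Agent.Lib.Cert.ONs.V0D

set_option autoImplicit false
set_option maxRecDepth 100000

namespace Cfsg.Agent.Ct.ONs.V0

open Cfsg.Agent.PC

theorem cb112064 : Nat.beq (rng f2 (nat_lit 112064) (nat_lit 824)) (nat_lit 0) = true := by decide +kernel
theorem cb112888 : Nat.beq (rng f2 (nat_lit 112888) (nat_lit 824)) (nat_lit 0) = true := by decide +kernel
theorem cb113712 : Nat.beq (rng f2 (nat_lit 113712) (nat_lit 824)) (nat_lit 0) = true := by decide +kernel
theorem cb114536 : Nat.beq (rng f2 (nat_lit 114536) (nat_lit 824)) (nat_lit 0) = true := by decide +kernel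
theorem cb115360 : Nat.beq (rng f2 (nat_lit 115360) (nat_lit 824)) (nat_lit 0) = true := by decide +kernel
theorem cb116184 : Nat.beq (rng f2 (nat_lit 116184) (nat_lit 824)) (nat_lit 0) = true := by decide +kernel
theorem cb117008 : Nat.beq (rng f2 (nat_lit 117008) (nat_lit 824)) (nat_lit 0) = true := by decide +kernel
theorem cb117832 : Nat.beq (rng f2 (nat_lit 117832) (nat_lit 824)) (nat_lit 0) = true := by decide +kernel

end Cfsg.Agent.Ct.ONs.V0
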