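import Cfsg.Agent.Lib.Cert.ONs.V0D

set_option autoImplicit false
set_option maxRecDepth 100000

namespace Cfsg.Agent.Ct.ONs.V0

open Cfsg.Agent.PC

theorem cb118656 : Nat.beq (rng f2 (nat_lit 118656) (nat_lit 824)) (nat_lit 0) = true := by decide +kernel
theorem cb119480 : Nat.beq (rng f2 (nat_lit 119480) (nat_lit 824)) (nat_lit 0) = true := by decide +kernel
theorem cb120304 : Nat.beq (rng f2 (nat_lit 120304) (nat_lit 824)) (nat_lit 0) = true := by decide +kernel
theorem cb121128 : Nat.beq (rng f2 (nat_lit 121128) (nat_lit 824)) (nat_lit 0) = true := by decide +kernel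
theorem cb121952 : Nat.beq (rng f2 (nat_lit 121952) (nat_lit 808)) (nat_lit 0) = true := by decide +kernel

end Cfsg.Agent.Ct.ONs.V0
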