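import Cfsg.Agent.Lib.Cert.ONs.V0D

set_option autoImplicit false
set_option maxRecDepth 100000

namespace Cfsg.Agent.Ct.ONs.V0

open Cfsg.Agent.PC

theorem ca225000 : Nat.beq (rng f1 (nat_lit 225000) (nat_lit 9375)) (nat_lit 0) = true := by decide +kernel
theorem ca234375 : Nat.beq (rng f1 (nat_lit 234375) (nat_lit 9375)) (nat_lit 0) = true := by decide +kernel
theorem ca243750 : Nat.beq (rng f1 (nat_lit 243750) (nat_lit 9375)) (nat_lit 0) = true := by decide +kernel
theorem ca253125 : Nat.beq (rng f1 (nat_lit 253125) (nat_lit 9375)) (nat_lit 0) = true := by decide +kernel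
theorem ca262500 : Nat.beq (rng f1 (nat_lit 262500) (nat_lit 9375)) (nat_lit 0) = true := by decide +kernel
theorem ca271875 : Nat.beq (rng f1 (nat_lit 271875) (nat_lit 9375)) (nat_lit 0) = true := by decide +kernel
theorem ca281250 : Nat.beq (rng f1 (nat_lit 281250) (nat_lit 9375)) (nat_lit 0) = true := by decide +kernel
theorem ca290625 : Nat.beq (rng f1 (nat_lit 290625) (nat_lit 9375)) (nat_lit 0) = true := by decide +kernel

end Cfsg.Agent.Ct.ONs.V0
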