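import Cfsg.Agent.Lib.Cert.ONs.V0D

set_option autoImplicit false
set_option maxRecDepth 100000

namespace Cfsg.Agent.Ct.ONs.V0

open Cfsg.Agent.PC

theorem cb0 : Nat.beq (rng f2 (nat_lit 0) (nat_lit 824)) (nat_lit 0) = true := by decide +kernel
theorem cb824 : Nat.beq (rng f2 (nat_lit 824) (nat_lit 824)) (nat_lit 0) = true := by decide +kernel
theorem cb1648 : Nat.beq (rng f2 (nat_lit 1648) (nat_lit 824)) (nat_lit 0) = true := by decide +kernel
theorem cb2472 : Nat.beq (rng f2 (nat_lit 2472) (nat_lit 824)) (nat_lit 0) = true := by decide +kernel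
theorem cb3296 : Nat.beq (rng f2 (nat_lit 3296) (nat_lit 824)) (nat_lit 0) = true := by decide +kernel
theorem cb4120 : Nat.beq (rng f2 (nat_lit 4120) (nat_lit 824)) (nat_lit 0) = true := by decide +kernel
theorem cb4944 : Nat.beq (rng f2 (nat_lit 4944) (nat_lit 824)) (nat_lit 0) = true := by decide +kernel
theorem cb5768 : Nat.beq (rng f2 (nat_lit 5768) (nat_lit 824)) (nat_lit 0) = true := by decide +kernel

end Cfsg.Agent.Ct.ONs.V0
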