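import Cfsg.Agent.Lib.Cert.ONs.V0D

set_option autoImplicit false
set_option maxRecDepth 100000

namespace Cfsg.Agent.Ct.ONs.V0

open Cfsg.Agent.PC

theorem cb6592 : Nat.beq (rng f2 (nat_lit 6592) (nat_lit 824)) (nat_lit 0) = true := by decide +kernel
theorem cb7416 : Nat.beq (rng f2 (nat_lit 7416) (nat_lit 824)) (nat_lit 0) = true := by decide +kernel
theorem cb8240 : Nat.beq (rng f2 (nat_lit 8240) (nat_lit 824)) (nat_lit 0) = true := by decide +kernel
theorem cb9064 : Nat.beq (rng f2 (nat_lit 9064) (nat_lit 824)) (nat_lit 0) = true := by decide +kernel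
theorem cb9888 : Nat.beq (rng f2 (nat_lit 9888) (nat_lit 824)) (nat_lit 0) = true := by decide +kernel
theorem cb10712 : Nat.beq (rng f2 (nat_lit 10712) (nat_lit 824)) (nat_lit 0) = true := by decide +kernel
theorem cb11536 : Nat.beq (rng f2 (nat_lit 11536) (nat_lit 824)) (nat_lit 0) = true := by decide +kernel
theorem cb12360 : Nat.beq (rng f2 (nat_lit 12360) (nat_lit 824)) (nat_lit 0) = true := by decide +kernel

end Cfsg.Agent.Ct.ONs.V0
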