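import Cfsg.Agent.Lib.Cert.ONs.V0D

set_option autoImplicit false
set_option maxRecDepth 100000

namespace Cfsg.Agent.Ct.ONs.V0

open Cfsg.Agent.PC

theorem cb13184 : Nat.beq (rng f2 (nat_lit 13184) (nat_lit 824)) (nat_lit 0) = true := by decide +kernel
theorem cb14008 : Nat.beq (rng f2 (nat_lit 14008) (nat_lit 824)) (nat_lit 0) = true := by decide +kernel
theorem cb14832 : Nat.beq (rng f2 (nat_lit 14832) (nat_lit 824)) (nat_lit 0) = true := by decide +kernel
theorem cb15656 : Nat.beq (rng f2 (nat_lit 15656) (nat_lit 824)) (nat_lit 0) = true := by decide +kernel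
theorem cb16480 : Nat.beq (rng f2 (nat_lit 16480) (nat_lit 824)) (nat_lit 0) = true := by decide +kernel
theorem cb17304 : Nat.beq (rng f2 (nat_lit 17304) (nat_lit 824)) (nat_lit 0) = true := by decide +kernel
theorem cb18128 : Nat.beq (rng f2 (nat_lit 18128) (nat_lit 824)) (nat_lit 0) = true := by decide +kernel
theorem cb18952 : Nat.beq (rng f2 (nat_lit 18952) (nat_lit 824)) (nat_lit 0) = true := by decide +kernel

end Cfsg.Agent.Ct.ONs.V0
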