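import Cfsg.Agent.Lib.Cert.ONs.V0D

set_option autoImplicit false
set_option maxRecDepth 100000

namespace Cfsg.Agent.Ct.ONs.V0

open Cfsg.Agent.PC

theorem cb19776 : Nat.beq (rng f2 (nat_lit 19776) (nat_lit 824)) (nat_lit 0) = true := by decide +kernel
theorem cb20600 : Nat.beq (rng f2 (nat_lit 20600) (nat_lit 824)) (nat_lit 0) = true := by decide +kernel
theorem cb21424 : Nat.beq (rng f2 (nat_lit 21424) (nat_lit 824)) (nat_lit 0) = true := by decide +kernel
theorem cb22248 : Nat.beq (rng f2 (nat_lit 22248) (nat_lit 824)) (nat_lit 0) = true := by decide +kernel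
theorem cb23072 : Nat.beq (rng f2 (nat_lit 23072) (nat_lit 824)) (nat_lit 0) = true := by decide +kernel
theorem cb23896 : Nat.beq (rng f2 (nat_lit 23896) (nat_lit 824)) (nat_lit 0) = true := by decide +kernel
theorem cb24720 : Nat.beq (rng f2 (nat_lit 24720) (nat_lit 824)) (nat_lit 0) = true := by decide +kernel
theorem cb25544 : Nat.beq (rng f2 (nat_lit 25544) (nat_lit 824)) (nat_lit 0) = true := by decide +kernel

end Cfsg.Agent.Ct.ONs.V0
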