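import Cfsg.Agent.Lib.Cert.ONs.V0D

set_option autoImplicit false
set_option maxRecDepth 100000

namespace Cfsg.Agent.Ct.ONs.V0

open Cfsg.Agent.PC

theorem cb26368 : Nat.beq (rng f2 (nat_lit 26368) (nat_lit 824)) (nat_lit 0) = true := by decide +kernel
theorem cb27192 : Nat.beq (rng f2 (nat_lit 27192) (nat_lit 824)) (nat_lit 0) = true := by decide +kernel
theorem cb28016 : Nat.beq (rng f2 (nat_lit 28016) (nat_lit 824)) (nat_lit 0) = true := by decide +kernel
theorem cb28840 : Nat.beq (rng f2 (nat_lit 28840) (nat_lit 824)) (nat_lit 0) = true := by decide +kernel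
theorem cb29664 : Nat.beq (rng f2 (nat_lit 29664) (nat_lit 824)) (nat_lit 0) = true := by decide +kernel
theorem cb30488 : Nat.beq (rng f2 (nat_lit 30488) (nat_lit 824)) (nat_lit 0) = true := by decide +kernel
theorem cb31312 : Nat.beq (rng f2 (nat_lit 31312) (nat_lit 824)) (nat_lit 0) = true := by decide +kernel
theorem cb32136 : Nat.beq (rng f2 (nat_lit 32136) (nat_lit 824)) (nat_lit 0) = true := by decide +kernel

end Cfsg.Agent.Ct.ONs.V0
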