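import Cfsg.Agent.Lib.Cert.ONs.V0R0
import Cfsg.Agent.Lib.Cert.ONs.V0R1
import Cfsg.Agent.Lib.Cert.ONs.V0R2
import Cfsg.Agent.Lib.Cert.ONs.V0R3
import Cfsg.Agent.Lib.Cert.ONs.V0R4
import Cfsg.Agent.Lib.Cert.ONs.V0R5
import Cfsg.Agent.Lib.Cert.ONs.V0R6
import Cfsg.Agent.Lib.Cert.ONs.V0R7
import Cfsg.Agent.Lib.Cert.ONs.V0R8
import Cfsg.Agent.Lib.Cert.ONs.V0R9
import Cfsg.Agent.Lib.Cert.ONs.V0R10
import Cfsg.Agent.Lib.Cert.ONs.V0R11
import Cfsg.Agent.Lib.Cert.ONs.V0R12
import Cfsg.Agent.Lib.Cert.ONs.V0R13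
import Cfsg.Agent.Lib.Cert.ONs.V0R14
import Cfsg.Agent.Lib.Cert.ONs.V0R15
import Cfsg.Agent.Lib.Cert.ONs.V0R16
import Cfsg.Agent.Lib.Cert.ONs.V0R17
import Cfsg.Agent.Lib.Cert.ONs.V0R18
import Cfsg.Agent.Lib.Cert.ONs.V0R19
import Cfsg.Agent.Lib.Cert.ONs.V0R20
import Cfsg.Agent.Lib.Cert.ONs.V0R21
import Cfsg.Agent.Lib.Cert.ONs.V0R22
import Cfsg.Agent.Lib.Cert.ONs.V0R23

set_option autoImplicit false
set_option maxRecDepth 100000

namespace Cfsg.Agent.Ct.ONs.V0

open Cfsg.Agent.PC

open Cfsg.Agent.Fi Cfsg.Agent.Ct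
theorem h1 : ∀ i < 368280, f1 i = 0 := by
  have h := zero_lt_zero f1
  have h := zero_lt_add (a := (nat_lit 0)) (n := (nat_lit 9375)) (b := (nat_lit 9375)) h ca0 rfl
  have h := zero_lt_add (a := (nat_lit 9375)) (n := (nat_lit 9375)) (b := (nat_lit 18750)) h ca9375 rfl
  have h := zero_lt_add (a := (nat_lit 18750)) (n := (nat_lit 9375)) (b := (nat_lit 28125)) h ca18750 rfl
  have h := zero_lt_add (a := (nat_lit 28125)) (n := (nat_lit 9375)) (b := (nat_lit 37500)) h ca28125 rfl
  have h := zero_lt_add (a := (nat_lit 37500)) (n := (nat_lit 9375)) (b := (nat_lit 46875)) h ca37500 rfl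
  have h := zero_lt_add (a := (nat_lit 46875)) (n := (nat_lit 9375)) (b := (nat_lit 56250)) h ca46875 rfl
  have h := zero_lt_add (a := (nat_lit 56250)) (n := (nat_lit 9375)) (b := (nat_lit 65625)) h ca56250 rfl
  have h := zero_lt_add (a := (nat_lit 65625)) (n := (nat_lit 9375)) (b := (nat_lit 75000)) h ca65625 rfl
  have h := zero_lt_add (a := (nat_lit 75000)) (n := (nat_lit 9375)) (b := (nat_lit 84375)) h ca75000 rfl
  have h := zero_lt_add (a := (nat_lit 84375)) (n := (nat_lit 9375)) (b := (nat_lit 93750)) h ca84375 rfl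
  have h := zero_lt_add (a := (nat_lit 93750)) (n := (nat_lit 9375)) (b := (nat_lit 103125)) h ca93750 rfl
  have h := zero_lt_add (a := (nat_lit 103125)) (n := (nat_lit 9375)) (b := (nat_lit 112500)) h ca103125 rfl
  have h := zero_lt_add (a := (nat_lit 112500)) (n := (nat_lit 9375)) (b := (nat_lit 121875)) h ca112500 rfl
  have h := zero_lt_add (a := (nat_lit 121875)) (n := (nat_lit 9375)) (b := (nat_lit 131250)) h ca121875 rfl
  have h := zero_lt_add (a := (nat_lit 131250)) (n := (nat_lit 9375)) (b := (nat_lit 140625)) h ca131250 rfl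
  have h := zero_lt_add (a := (nat_lit 140625)) (n := (nat_lit 9375)) (b := (nat_lit 150000)) h ca140625 rfl
  have h := zero_lt_add (a := (nat_lit 150000)) (n := (nat_lit 9375)) (b := (nat_lit 159375)) h ca150000 rfl
  have h := zero_lt_add (a := (nat_lit 159375)) (n := (nat_lit 9375)) (b := (nat_lit 168750)) h ca159375 rfl
  have h := zero_lt_add (a := (nat_lit 168750)) (n := (nat_lit 9375)) (b := (nat_lit 178125)) h ca168750 rfl
  have h := zero_lt_add (a := (nat_lit 178125)) (n := (nat_lit 9375)) (b := (nat_lit 187500)) h ca178125 rfl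
  have h := zero_lt_add (a := (nat_lit 187500)) (n := (nat_lit 9375)) (b := (nat_lit 196875)) h ca187500 rfl
  have h := zero_lt_add (a := (nat_lit 196875)) (n := (nat_lit 9375)) (b := (nat_lit 206250)) h ca196875 rfl
  have h := zero_lt_add (a := (nat_lit 206250)) (n := (nat_lit 9375)) (b := (nat_lit 215625)) h ca206250 rfl
  have h := zero_lt_add (a := (nat_lit 215625)) (n := (nat_lit 9375)) (b := (nat_lit 225000)) h ca215625 rfl
  have h := zero_lt_add (a := (nat_lit 225000)) (n := (nat_lit 9375)) (b := (nat_lit 234375)) h ca225000 rfl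
  have h := zero_lt_add (a := (nat_lit 234375)) (n := (nat_lit 9375)) (b := (nat_lit 243750)) h ca234375 rfl
  have h := zero_lt_add (a := (nat_lit 243750)) (n := (nat_lit 9375)) (b := (nat_lit 253125)) h ca243750 rfl
  have h := zero_lt_add (a := (nat_lit 253125)) (n := (nat_lit 9375)) (b := (nat_lit 262500)) h ca253125 rfl
  have h := zero_lt_add (a := (nat_lit 262500)) (n := (nat_lit 9375)) (b := (nat_lit 271875)) h ca262500 rfl
  have h := zero_lt_add (a := (nat_lit 271875)) (n := (nat_lit 9375)) (b := (nat_lit 281250)) h ca271875 rfl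
  have h := zero_lt_add (a := (nat_lit 281250)) (n := (nat_lit 9375)) (b := (nat_lit 290625)) h ca281250 rfl
  have h := zero_lt_add (a := (nat_lit 290625)) (n := (nat_lit 9375)) (b := (nat_lit 300000)) h ca290625 rfl
  have h := zero_lt_add (a := (nat_lit 300000)) (n := (nat_lit 9375)) (b := (nat_lit 309375)) h ca300000 rfl
  have h := zero_lt_add (a := (nat_lit 309375)) (n := (nat_lit 9375)) (b := (nat_lit 318750)) h ca309375 rfl
  have h := zero_lt_add (a := (nat_lit 318750)) (n := (nat_lit 9375)) (b := (nat_lit 328125)) h ca318750 rfl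
  have h := zero_lt_add (a := (nat_lit 328125)) (n := (nat_lit 9375)) (b := (nat_lit 337500)) h ca328125 rfl
  have h := zero_lt_add (a := (nat_lit 337500)) (n := (nat_lit 9375)) (b := (nat_lit 346875)) h ca337500 rfl
  have h := zero_lt_add (a := (nat_lit 346875)) (n := (nat_lit 9375)) (b := (nat_lit 356250)) h ca346875 rfl
  have h := zero_lt_add (a := (nat_lit 356250)) (n := (nat_lit 9375)) (b := (nat_lit 365625)) h ca356250 rfl
  have h := zero_lt_add (a := (nat_lit 365625)) (n := (nat_lit 2655)) (b := (nat_lit 368280)) h ca365625 rfl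
  exact h
theorem h2 : ∀ i < 122760, f2 i = 0 := by
  have h := zero_lt_zero f2
  have h := zero_lt_add (a := (nat_lit 0)) (n := (nat_lit 824)) (b := (nat_lit 824)) h cb0 rfl
  have h := zero_lt_add (a := (nat_lit 824)) (n := (nat_lit 824)) (b := (nat_lit 1648)) h cb824 rfl
  have h := zero_lt_add (a := (nat_lit 1648)) (n := (nat_lit 824)) (b := (nat_lit 2472)) h cb1648 rfl
  have h := zero_lt_add (a := (nat_lit 2472)) (n := (nat_lit 824)) (b := (nat_lit 3296)) h cb2472 rfl
  have h := zero_lt_add (a := (nat_lit 3296)) (n := (nat_lit 824)) (b := (nat_lit 4120)) h cb3296 rfl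
  have h := zero_lt_add (a := (nat_lit 4120)) (n := (nat_lit 824)) (b := (nat_lit 4944)) h cb4120 rfl
  have h := zero_lt_add (a := (nat_lit 4944)) (n := (nat_lit 824)) (b := (nat_lit 5768)) h cb4944 rfl
  have h := zero_lt_add (a := (nat_lit 5768)) (n := (nat_lit 824)) (b := (nat_lit 6592)) h cb5768 rfl
  have h := zero_lt_add (a := (nat_lit 6592)) (n := (nat_lit 824)) (b := (nat_lit 7416)) h cb6592 rfl
  have h := zero_lt_add (a := (nat_lit 7416)) (n := (nat_lit 824)) (b := (nat_lit 8240)) h cb7416 rfl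
  have h := zero_lt_add (a := (nat_lit 8240)) (n := (nat_lit 824)) (b := (nat_lit 9064)) h cb8240 rfl
  have h := zero_lt_add (a := (nat_lit 9064)) (n := (nat_lit 824)) (b := (nat_lit 9888)) h cb9064 rfl
  have h := zero_lt_add (a := (nat_lit 9888)) (n := (nat_lit 824)) (b := (nat_lit 10712)) h cb9888 rfl
  have h := zero_lt_add (a := (nat_lit 10712)) (n := (nat_lit 824)) (b := (nat_lit 11536)) h cb10712 rfl
  have h := zero_lt_add (a := (nat_lit 11536)) (n := (nat_lit 824)) (b := (nat_lit 12360)) h cb11536 rfl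
  have h := zero_lt_add (a := (nat_lit 12360)) (n := (nat_lit 824)) (b := (nat_lit 13184)) h cb12360 rfl
  have h := zero_lt_add (a := (nat_lit 13184)) (n := (nat_lit 824)) (b := (nat_lit 14008)) h cb13184 rfl
  have h := zero_lt_add (a := (nat_lit 14008)) (n := (nat_lit 824)) (b := (nat_lit 14832)) h cb14008 rfl
  have h := zero_lt_add (a := (nat_lit 14832)) (n := (nat_lit 824)) (b := (nat_lit 15656)) h cb14832 rfl
  have h := zero_lt_add (a := (nat_lit 15656)) (n := (nat_lit 824)) (b := (nat_lit 16480)) h cb15656 rfl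
  have h := zero_lt_add (a := (nat_lit 16480)) (n := (nat_lit 824)) (b := (nat_lit 17304)) h cb16480 rfl
  have h := zero_lt_add (a := (nat_lit 17304)) (n := (nat_lit 824)) (b := (nat_lit 18128)) h cb17304 rfl
  have h := zero_lt_add (a := (nat_lit 18128)) (n := (nat_lit 824)) (b := (nat_lit 18952)) h cb18128 rfl
  have h := zero_lt_add (a := (nat_lit 18952)) (n := (nat_lit 824)) (b := (nat_lit 19776)) h cb18952 rfl
  have h := zero_lt_add (a := (nat_lit 19776)) (n := (nat_lit 824)) (b := (nat_lit 20600)) h cb19776 rfl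
  have h := zero_lt_add (a := (nat_lit 20600)) (n := (nat_lit 824)) (b := (nat_lit 21424)) h cb20600 rfl
  have h := zero_lt_add (a := (nat_lit 21424)) (n := (nat_lit 824)) (b := (nat_lit 22248)) h cb21424 rfl
  have h := zero_lt_add (a := (nat_lit 22248)) (n := (nat_lit 824)) (b := (nat_lit 23072)) h cb22248 rfl
  have h := zero_lt_add (a := (nat_lit 23072)) (n := (nat_lit 824)) (b := (nat_lit 23896)) h cb23072 rfl
  have h := zero_lt_add (a := (nat_lit 23896)) (n := (nat_lit 824)) (b := (nat_lit 24720)) h cb23896 rfl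
  have h := zero_lt_add (a := (nat_lit 24720)) (n := (nat_lit 824)) (b := (nat_lit 25544)) h cb24720 rfl
  have h := zero_lt_add (a := (nat_lit 25544)) (n := (nat_lit 824)) (b := (nat_lit 26368)) h cb25544 rfl
  have h := zero_lt_add (a := (nat_lit 26368)) (n := (nat_lit 824)) (b := (nat_lit 27192)) h cb26368 rfl
  have h := zero_lt_add (a := (nat_lit 27192)) (n := (nat_lit 824)) (b := (nat_lit 28016)) h cb27192 rfl
  have h := zero_lt_add (a := (nat_lit 28016)) (n := (nat_lit 824)) (b := (nat_lit 28840)) h cb28016 rfl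
  have h := zero_lt_add (a := (nat_lit 28840)) (n := (nat_lit 824)) (b := (nat_lit 29664)) h cb28840 rfl
  have h := zero_lt_add (a := (nat_lit 29664)) (n := (nat_lit 824)) (b := (nat_lit 30488)) h cb29664 rfl
  have h := zero_lt_add (a := (nat_lit 30488)) (n := (nat_lit 824)) (b := (nat_lit 31312)) h cb30488 rfl
  have h := zero_lt_add (a := (nat_lit 31312)) (n := (nat_lit 824)) (b := (nat_lit 32136)) h cb31312 rfl
  have h := zero_lt_add (a := (nat_lit 32136)) (n := (nat_lit 824)) (b := (nat_lit 32960)) h cb32136 rfl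
  have h := zero_lt_add (a := (nat_lit 32960)) (n := (nat_lit 824)) (b := (nat_lit 33784)) h cb32960 rfl
  have h := zero_lt_add (a := (nat_lit 33784)) (n := (nat_lit 824)) (b := (nat_lit 34608)) h cb33784 rfl
  have h := zero_lt_add (a := (nat_lit 34608)) (n := (nat_lit 824)) (b := (nat_lit 35432)) h cb34608 rfl
  have h := zero_lt_add (a := (nat_lit 35432)) (n := (nat_lit 824)) (b := (nat_lit 36256)) h cb35432 rfl
  have h := zero_lt_add (a := (nat_lit 36256)) (n := (nat_lit 824)) (b := (nat_lit 37080)) h cb36256 rfl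
  have h := zero_lt_add (a := (nat_lit 37080)) (n := (nat_lit 824)) (b := (nat_lit 37904)) h cb37080 rfl
  have h := zero_lt_add (a := (nat_lit 37904)) (n := (nat_lit 824)) (b := (nat_lit 38728)) h cb37904 rfl
  have h := zero_lt_add (a := (nat_lit 38728)) (n := (nat_lit 824)) (b := (nat_lit 39552)) h cb38728 rfl
  have h := zero_lt_add (a := (nat_lit 39552)) (n := (nat_lit 824)) (b := (nat_lit 40376)) h cb39552 rfl
  have h := zero_lt_add (a := (nat_lit 40376)) (n := (nat_lit 824)) (b := (nat_lit 41200)) h cb40376 rfl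
  have h := zero_lt_add (a := (nat_lit 41200)) (n := (nat_lit 824)) (b := (nat_lit 42024)) h cb41200 rfl
  have h := zero_lt_add (a := (nat_lit 42024)) (n := (nat_lit 824)) (b := (nat_lit 42848)) h cb42024 rfl
  have h := zero_lt_add (a := (nat_lit 42848)) (n := (nat_lit 824)) (b := (nat_lit 43672)) h cb42848 rfl
  have h := zero_lt_add (a := (nat_lit 43672)) (n := (nat_lit 824)) (b := (nat_lit 44496)) h cb43672 rfl
  have h := zero_lt_add (a := (nat_lit 44496)) (n := (nat_lit 824)) (b := (nat_lit 45320)) h cb44496 rfl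
  have h := zero_lt_add (a := (nat_lit 45320)) (n := (nat_lit 824)) (b := (nat_lit 46144)) h cb45320 rfl
  have h := zero_lt_add (a := (nat_lit 46144)) (n := (nat_lit 824)) (b := (nat_lit 46968)) h cb46144 rfl
  have h := zero_lt_add (a := (nat_lit 46968)) (n := (nat_lit 824)) (b := (nat_lit 47792)) h cb46968 rfl
  have h := zero_lt_add (a := (nat_lit 47792)) (n := (nat_lit 824)) (b := (nat_lit 48616)) h cb47792 rfl
  have h := zero_lt_add (a := (nat_lit 48616)) (n := (nat_lit 824)) (b := (nat_lit 49440)) h cb48616 rfl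
  have h := zero_lt_add (a := (nat_lit 49440)) (n := (nat_lit 824)) (b := (nat_lit 50264)) h cb49440 rfl
  have h := zero_lt_add (a := (nat_lit 50264)) (n := (nat_lit 824)) (b := (nat_lit 51088)) h cb50264 rfl
  have h := zero_lt_add (a := (nat_lit 51088)) (n := (nat_lit 824)) (b := (nat_lit 51912)) h cb51088 rfl
  have h := zero_lt_add (a := (nat_lit 51912)) (n := (nat_lit 824)) (b := (nat_lit 52736)) h cb51912 rfl
  have h := zero_lt_add (a := (nat_lit 52736)) (n := (nat_lit 824)) (b := (nat_lit 53560)) h cb52736 rfl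
  have h := zero_lt_add (a := (nat_lit 53560)) (n := (nat_lit 824)) (b := (nat_lit 54384)) h cb53560 rfl
  have h := zero_lt_add (a := (nat_lit 54384)) (n := (nat_lit 824)) (b := (nat_lit 55208)) h cb54384 rfl
  have h := zero_lt_add (a := (nat_lit 55208)) (n := (nat_lit 824)) (b := (nat_lit 56032)) h cb55208 rfl
  have h := zero_lt_add (a := (nat_lit 56032)) (n := (nat_lit 824)) (b := (nat_lit 56856)) h cb56032 rfl
  have h := zero_lt_add (a := (nat_lit 56856)) (n := (nat_lit 824)) (b := (nat_lit 57680)) h cb56856 rfl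
  have h := zero_lt_add (a := (nat_lit 57680)) (n := (nat_lit 824)) (b := (nat_lit 58504)) h cb57680 rfl
  have h := zero_lt_add (a := (nat_lit 58504)) (n := (nat_lit 824)) (b := (nat_lit 59328)) h cb58504 rfl
  have h := zero_lt_add (a := (nat_lit 59328)) (n := (nat_lit 824)) (b := (nat_lit 60152)) h cb59328 rfl
  have h := zero_lt_add (a := (nat_lit 60152)) (n := (nat_lit 824)) (b := (nat_lit 60976)) h cb60152 rfl
  have h := zero_lt_add (a := (nat_lit 60976)) (n := (nat_lit 824)) (b := (nat_lit 61800)) h cb60976 rfl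
  have h := zero_lt_add (a := (nat_lit 61800)) (n := (nat_lit 824)) (b := (nat_lit 62624)) h cb61800 rfl
  have h := zero_lt_add (a := (nat_lit 62624)) (n := (nat_lit 824)) (b := (nat_lit 63448)) h cb62624 rfl
  have h := zero_lt_add (a := (nat_lit 63448)) (n := (nat_lit 824)) (b := (nat_lit 64272)) h cb63448 rfl
  have h := zero_lt_add (a := (nat_lit 64272)) (n := (nat_lit 824)) (b := (nat_lit 65096)) h cb64272 rfl
  have h := zero_lt_add (a := (nat_lit 65096)) (n := (nat_lit 824)) (b := (nat_lit 65920)) h cb65096 rfl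
  have h := zero_lt_add (a := (nat_lit 65920)) (n := (nat_lit 824)) (b := (nat_lit 66744)) h cb65920 rfl
  have h := zero_lt_add (a := (nat_lit 66744)) (n := (nat_lit 824)) (b := (nat_lit 67568)) h cb66744 rfl
  have h := zero_lt_add (a := (nat_lit 67568)) (n := (nat_lit 824)) (b := (nat_lit 68392)) h cb67568 rfl
  have h := zero_lt_add (a := (nat_lit 68392)) (n := (nat_lit 824)) (b := (nat_lit 69216)) h cb68392 rfl
  have h := zero_lt_add (a := (nat_lit 69216)) (n := (nat_lit 824)) (b := (nat_lit 70040)) h cb69216 rfl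
  have h := zero_lt_add (a := (nat_lit 70040)) (n := (nat_lit 824)) (b := (nat_lit 70864)) h cb70040 rfl
  have h := zero_lt_add (a := (nat_lit 70864)) (n := (nat_lit 824)) (b := (nat_lit 71688)) h cb70864 rfl
  have h := zero_lt_add (a := (nat_lit 71688)) (n := (nat_lit 824)) (b := (nat_lit 72512)) h cb71688 rfl
  have h := zero_lt_add (a := (nat_lit 72512)) (n := (nat_lit 824)) (b := (nat_lit 73336)) h cb72512 rfl
  have h := zero_lt_add (a := (nat_lit 73336)) (n := (nat_lit 824)) (b := (nat_lit 74160)) h cb73336 rfl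
  have h := zero_lt_add (a := (nat_lit 74160)) (n := (nat_lit 824)) (b := (nat_lit 74984)) h cb74160 rfl
  have h := zero_lt_add (a := (nat_lit 74984)) (n := (nat_lit 824)) (b := (nat_lit 75808)) h cb74984 rfl
  have h := zero_lt_add (a := (nat_lit 75808)) (n := (nat_lit 824)) (b := (nat_lit 76632)) h cb75808 rfl
  have h := zero_lt_add (a := (nat_lit 76632)) (n := (nat_lit 824)) (b := (nat_lit 77456)) h cb76632 rfl
  have h := zero_lt_add (a := (nat_lit 77456)) (n := (nat_lit 824)) (b := (nat_lit 78280)) h cb77456 rfl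
  have h := zero_lt_add (a := (nat_lit 78280)) (n := (nat_lit 824)) (b := (nat_lit 79104)) h cb78280 rfl
  have h := zero_lt_add (a := (nat_lit 79104)) (n := (nat_lit 824)) (b := (nat_lit 79928)) h cb79104 rfl
  have h := zero_lt_add (a := (nat_lit 79928)) (n := (nat_lit 824)) (b := (nat_lit 80752)) h cb79928 rfl
  have h := zero_lt_add (a := (nat_lit 80752)) (n := (nat_lit 824)) (b := (nat_lit 81576)) h cb80752 rfl
  have h := zero_lt_add (a := (nat_lit 81576)) (n := (nat_lit 824)) (b := (nat_lit 82400)) h cb81576 rfl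
  have h := zero_lt_add (a := (nat_lit 82400)) (n := (nat_lit 824)) (b := (nat_lit 83224)) h cb82400 rfl
  have h := zero_lt_add (a := (nat_lit 83224)) (n := (nat_lit 824)) (b := (nat_lit 84048)) h cb83224 rfl
  have h := zero_lt_add (a := (nat_lit 84048)) (n := (nat_lit 824)) (b := (nat_lit 84872)) h cb84048 rfl
  have h := zero_lt_add (a := (nat_lit 84872)) (n := (nat_lit 824)) (b := (nat_lit 85696)) h cb84872 rfl
  have h := zero_lt_add (a := (nat_lit 85696)) (n := (nat_lit 824)) (b := (nat_lit 86520)) h cb85696 rfl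
  have h := zero_lt_add (a := (nat_lit 86520)) (n := (nat_lit 824)) (b := (nat_lit 87344)) h cb86520 rfl
  have h := zero_lt_add (a := (nat_lit 87344)) (n := (nat_lit 824)) (b := (nat_lit 88168)) h cb87344 rfl
  have h := zero_lt_add (a := (nat_lit 88168)) (n := (nat_lit 824)) (b := (nat_lit 88992)) h cb88168 rfl
  have h := zero_lt_add (a := (nat_lit 88992)) (n := (nat_lit 824)) (b := (nat_lit 89816)) h cb88992 rfl
  have h := zero_lt_add (a := (nat_lit 89816)) (n := (nat_lit 824)) (b := (nat_lit 90640)) h cb89816 rfl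
  have h := zero_lt_add (a := (nat_lit 90640)) (n := (nat_lit 824)) (b := (nat_lit 91464)) h cb90640 rfl
  have h := zero_lt_add (a := (nat_lit 91464)) (n := (nat_lit 824)) (b := (nat_lit 92288)) h cb91464 rfl
  have h := zero_lt_add (a := (nat_lit 92288)) (n := (nat_lit 824)) (b := (nat_lit 93112)) h cb92288 rfl
  have h := zero_lt_add (a := (nat_lit 93112)) (n := (nat_lit 824)) (b := (nat_lit 93936)) h cb93112 rfl
  have h := zero_lt_add (a := (nat_lit 93936)) (n := (nat_lit 824)) (b := (nat_lit 94760)) h cb93936 rfl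
  have h := zero_lt_add (a := (nat_lit 94760)) (n := (nat_lit 824)) (b := (nat_lit 95584)) h cb94760 rfl
  have h := zero_lt_add (a := (nat_lit 95584)) (n := (nat_lit 824)) (b := (nat_lit 96408)) h cb95584 rfl
  have h := zero_lt_add (a := (nat_lit 96408)) (n := (nat_lit 824)) (b := (nat_lit 97232)) h cb96408 rfl
  have h := zero_lt_add (a := (nat_lit 97232)) (n := (nat_lit 824)) (b := (nat_lit 98056)) h cb97232 rfl
  have h := zero_lt_add (a := (nat_lit 98056)) (n := (nat_lit 824)) (b := (nat_lit 98880)) h cb98056 rfl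
  have h := zero_lt_add (a := (nat_lit 98880)) (n := (nat_lit 824)) (b := (nat_lit 99704)) h cb98880 rfl
  have h := zero_lt_add (a := (nat_lit 99704)) (n := (nat_lit 824)) (b := (nat_lit 100528)) h cb99704 rfl
  have h := zero_lt_add (a := (nat_lit 100528)) (n := (nat_lit 824)) (b := (nat_lit 101352)) h cb100528 rfl
  have h := zero_lt_add (a := (nat_lit 101352)) (n := (nat_lit 824)) (b := (nat_lit 102176)) h cb101352 rfl
  have h := zero_lt_add (a := (nat_lit 102176)) (n := (nat_lit 824)) (b := (nat_lit 103000)) h cb102176 rfl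
  have h := zero_lt_add (a := (nat_lit 103000)) (n := (nat_lit 824)) (b := (nat_lit 103824)) h cb103000 rfl
  have h := zero_lt_add (a := (nat_lit 103824)) (n := (nat_lit 824)) (b := (nat_lit 104648)) h cb103824 rfl
  have h := zero_lt_add (a := (nat_lit 104648)) (n := (nat_lit 824)) (b := (nat_lit 105472)) h cb104648 rfl
  have h := zero_lt_add (a := (nat_lit 105472)) (n := (nat_lit 824)) (b := (nat_lit 106296)) h cb105472 rfl
  have h := zero_lt_add (a := (nat_lit 106296)) (n := (nat_lit 824)) (b := (nat_lit 107120)) h cb106296 rfl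
  have h := zero_lt_add (a := (nat_lit 107120)) (n := (nat_lit 824)) (b := (nat_lit 107944)) h cb107120 rfl
  have h := zero_lt_add (a := (nat_lit 107944)) (n := (nat_lit 824)) (b := (nat_lit 108768)) h cb107944 rfl
  have h := zero_lt_add (a := (nat_lit 108768)) (n := (nat_lit 824)) (b := (nat_lit 109592)) h cb108768 rfl
  have h := zero_lt_add (a := (nat_lit 109592)) (n := (nat_lit 824)) (b := (nat_lit 110416)) h cb109592 rfl
  have h := zero_lt_add (a := (nat_lit 110416)) (n := (nat_lit 824)) (b := (nat_lit 111240)) h cb110416 rfl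
  have h := zero_lt_add (a := (nat_lit 111240)) (n := (nat_lit 824)) (b := (nat_lit 112064)) h cb111240 rfl
  have h := zero_lt_add (a := (nat_lit 112064)) (n := (nat_lit 824)) (b := (nat_lit 112888)) h cb112064 rfl
  have h := zero_lt_add (a := (nat_lit 112888)) (n := (nat_lit 824)) (b := (nat_lit 113712)) h cb112888 rfl
  have h := zero_lt_add (a := (nat_lit 113712)) (n := (nat_lit 824)) (b := (nat_lit 114536)) h cb113712 rfl
  have h := zero_lt_add (a := (nat_lit 114536)) (n := (nat_lit 824)) (b := (nat_lit 115360)) h cb114536 rfl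
  have h := zero_lt_add (a := (nat_lit 115360)) (n := (nat_lit 824)) (b := (nat_lit 116184)) h cb115360 rfl
  have h := zero_lt_add (a := (nat_lit 116184)) (n := (nat_lit 824)) (b := (nat_lit 117008)) h cb116184 rfl
  have h := zero_lt_add (a := (nat_lit 117008)) (n := (nat_lit 824)) (b := (nat_lit 117832)) h cb117008 rfl
  have h := zero_lt_add (a := (nat_lit 117832)) (n := (nat_lit 824)) (b := (nat_lit 118656)) h cb117832 rfl
  have h := zero_lt_add (a := (nat_lit 118656)) (n := (nat_lit 824)) (b := (nat_lit 119480)) h cb118656 rfl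
  have h := zero_lt_add (a := (nat_lit 119480)) (n := (nat_lit 824)) (b := (nat_lit 120304)) h cb119480 rfl
  have h := zero_lt_add (a := (nat_lit 120304)) (n := (nat_lit 824)) (b := (nat_lit 121128)) h cb120304 rfl
  have h := zero_lt_add (a := (nat_lit 121128)) (n := (nat_lit 824)) (b := (nat_lit 121952)) h cb121128 rfl
  have h := zero_lt_add (a := (nat_lit 121952)) (n := (nat_lit 808)) (b := (nat_lit 122760)) h cb121952 rfl
  exact h
theorem cov : Cov ON.inv ON.rels 8 U V [3] := cov_of (M := 368279) (N := 122760) rfl (by decide +kernel) h1 h2 a (by decide +kernel)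

end Cfsg.Agent.Ct.ONs.V0
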