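import Cfsg.Agent.Lib.Cert.ONs.V0D

set_option autoImplicit false
set_option maxRecDepth 100000

namespace Cfsg.Agent.Ct.ONs.V0

open Cfsg.Agent.PC

theorem ca0 : Nat.beq (rng f1 (nat_lit 0) (nat_lit 9375)) (nat_lit 0) = true := by decide +kernel
theorem ca9375 : Nat.beq (rng f1 (nat_lit 9375) (nat_lit 9375)) (nat_lit 0) = true := by decide +kernel
theorem ca18750 : Nat.beq (rng f1 (nat_lit 18750) (nat_lit 9375)) (nat_lit 0) = true := by decide +kernel
theorem ca28125 : Nat.beq (rng f1 (nat_lit 28125) (nat_lit 9375)) (nat_lit 0) = true := by decide +kernel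
theorem ca37500 : Nat.beq (rng f1 (nat_lit 37500) (nat_lit 9375)) (nat_lit 0) = true := by decide +kernel
theorem ca46875 : Nat.beq (rng f1 (nat_lit 46875) (nat_lit 9375)) (nat_lit 0) = true := by decide +kernel
theorem ca56250 : Nat.beq (rng f1 (nat_lit 56250) (nat_lit 9375)) (nat_lit 0) = true := by decide +kernel
theorem ca65625 : Nat.beq (rng f1 (nat_lit 65625) (nat_lit 9375)) (nat_lit 0) = true := by decide +kernel

end Cfsg.Agent.Ct.ONs.V0
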