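import Cfsg.Agent.Lib.Cert.ONs.V0D

set_option autoImplicit false
set_option maxRecDepth 100000

namespace Cfsg.Agent.Ct.ONs.V0

open Cfsg.Agent.PC

theorem cb52736 : Nat.beq (rng f2 (nat_lit 52736) (nat_lit 824)) (nat_lit 0) = true := by decide +kernel
theorem cb53560 : Nat.beq (rng f2 (nat_lit 53560) (nat_lit 824)) (nat_lit 0) = true := by decide +kernel
theorem cb54384 : Nat.beq (rng f2 (nat_lit 54384) (nat_lit 824)) (nat_lit 0) = true := by decide +kernel
theorem cb55208 : Nat.beq (rng f2 (nat_lit 55208) (nat_lit 824)) (nat_lit 0) = true := by decide +kernel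
theorem cb56032 : Nat.beq (rng f2 (nat_lit 56032) (nat_lit 824)) (nat_lit 0) = true := by decide +kernel
theorem cb56856 : Nat.beq (rng f2 (nat_lit 56856) (nat_lit 824)) (nat_lit 0) = true := by decide +kernel
theorem cb57680 : Nat.beq (rng f2 (nat_lit 57680) (nat_lit 824)) (nat_lit 0) = true := by decide +kernel
theorem cb58504 : Nat.beq (rng f2 (nat_lit 58504) (nat_lit 824)) (nat_lit 0) = true := by decide +kernel

end Cfsg.Agent.Ct.ONs.V0
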